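import Mathlib

/-!
Central extensions of elementary abelian groups by elementary abelian groups are determined by their squaring maps.
-/

set_option autoImplicit false
set_option linter.style.haveILetI false

namespace Cfsg.Lib.PGroups.Singer

/-- Two central extensions of `V` by `W`, `V` of exponent two, with the same squaring map are isomorphic. -/
theorem ext_iso {G H : Type*} [Group G] [Group H] {V W : Type*} [AddCommGroup V] [AddCommGroup W]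
    (hV : ∀ v : V, v + v = 0) (ψ : G → V) (ψ' : H → V) (z : G → W) (z' : H → W)
    (hψ : ∀ x y, ψ (x * y) = ψ x + ψ y) (hψs : Function.Surjective ψ)
    (hψ' : ∀ x y, ψ' (x * y) = ψ' x + ψ' y) (hψs' : Function.Surjective ψ')
    (hc : ∀ x, ψ x = 0 → ∀ y, y * x = x * y) (hc' : ∀ x, ψ' x = 0 → ∀ y, y * x = x * y)
    (hz : ∀ x y, ψ x = 0 → ψ y = 0 → z (x * y) = z x + z y)
    (hz' : ∀ x y, ψ' x = 0 → ψ' y = 0 → z' (x * y) = z' x + z' y)
    (hzi : ∀ x, ψ x = 0 → z x = 0 → x = 1) (hzi' : ∀ x, ψ' x = 0 → z' x = 0 → x = 1)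
    (hzs : ∀ w, ∃ x, ψ x = 0 ∧ z x = w) (hzs' : ∀ w, ∃ x, ψ' x = 0 ∧ z' x = w)
    (hq : ∀ g h, ψ g = ψ' h → z (g * g) = z' (h * h)) :
    Nonempty (G ≃* H) := by
  let f : G × H →* Multiplicative V := MonoidHom.mk' (fun p => Multiplicative.ofAdd (ψ p.1 - ψ' p.2)) fun p r => by
    show Multiplicative.ofAdd (ψ (p.1 * r.1) - ψ' (p.2 * r.2)) = _
    rw [hψ, hψ', ← ofAdd_add]
    congr 1
    abel
  have memK : ∀ p : G × H, p ∈ f.ker ↔ ψ p.1 = ψ' p.2 := fun p => by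
    rw [MonoidHom.mem_ker]
    exact Multiplicative.ofAdd.injective.eq_iff' (a := ψ p.1 - ψ' p.2) (c := 1) (b := 0) rfl |>.trans sub_eq_zero
  have ψ1 : ψ 1 = 0 := by simpa using hψ 1 1
  have ψ'1 : ψ' 1 = 0 := by simpa using hψ' 1 1
  have z1 : z 1 = 0 := by simpa using hz 1 1 ψ1 ψ1
  have z'1 : z' 1 = 0 := by simpa using hz' 1 1 ψ'1 ψ'1
  have ψinv : ∀ x, ψ x = 0 → ψ x⁻¹ = 0 := fun x hx => by
    have := hψ x⁻¹ x
    rwa [inv_mul_cancel, ψ1, hx, add_zero, eq_comm] at this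
  have ψ'inv : ∀ x, ψ' x = 0 → ψ' x⁻¹ = 0 := fun x hx => by
    have := hψ' x⁻¹ x
    rwa [inv_mul_cancel, ψ'1, hx, add_zero, eq_comm] at this
  let Δ : Subgroup f.ker :=
    { carrier := {p | ψ p.1.1 = 0 ∧ z p.1.1 = z' p.1.2}
      one_mem' := ⟨ψ1, z1.trans z'1.symm⟩
      mul_mem' := fun {p r} hp hr => by
        have hp' : ψ' p.1.2 = 0 := ((memK p.1).mp p.2).symm.trans hp.1
        have hr' : ψ' r.1.2 = 0 := ((memK r.1).mp r.2).symm.trans hr.1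
        refine ⟨?_, ?_⟩
        · show ψ (p.1.1 * r.1.1) = 0
          rw [hψ, hp.1, hr.1, add_zero]
        · show z (p.1.1 * r.1.1) = z' (p.1.2 * r.1.2)
          rw [hz _ _ hp.1 hr.1, hz' _ _ hp' hr', hp.2, hr.2]
      inv_mem' := fun {p} hp => by
        have hp' : ψ' p.1.2 = 0 := ((memK p.1).mp p.2).symm.trans hp.1
        refine ⟨ψinv _ hp.1, ?_⟩
        show z p.1.1⁻¹ = z' p.1.2⁻¹
        have h1 := hz p.1.1⁻¹ p.1.1 (ψinv _ hp.1) hp.1
        have h2 := hz' p.1.2⁻¹ p.1.2 (ψ'inv _ hp') hp'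
        rw [inv_mul_cancel, z1] at h1
        rw [inv_mul_cancel, z'1] at h2
        rw [eq_neg_of_add_eq_zero_left h1.symm, eq_neg_of_add_eq_zero_left h2.symm, hp.2] }
  have hΔn : Δ.Normal := ⟨fun p hp k => by
    have hp' : ψ' p.1.2 = 0 := ((memK p.1).mp p.2).symm.trans hp.1
    have e : k * p = p * k := Subtype.ext (Prod.ext (hc _ hp.1 _) (hc' _ hp' _))
    rw [e, mul_inv_cancel_right]
    exact hp⟩
  have hsq : ∀ x : f.ker ⧸ Δ, x * x = 1 := by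
    intro x
    induction x using QuotientGroup.induction_on with
    | H p =>
      rw [← QuotientGroup.mk_mul, QuotientGroup.eq_one_iff]
      refine ⟨?_, hq _ _ ((memK p.1).mp p.2)⟩
      show ψ (p.1.1 * p.1.1) = 0
      rw [hψ, hV]
  letI : CommGroup (f.ker ⧸ Δ) :=
    { (inferInstance : Group (f.ker ⧸ Δ)) with
      mul_comm := fun a b => by
        have hi : ∀ x : f.ker ⧸ Δ, x⁻¹ = x := fun x => inv_eq_of_mul_eq_one_right (hsq x)
        calc a * b = (a * b)⁻¹ := (hi _).symm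
          _ = b * a := by rw [mul_inv_rev, hi, hi] }
  haveI : Fact (Nat.Prime 2) := ⟨Nat.prime_two⟩
  letI : Module (ZMod 2) (Additive (f.ker ⧸ Δ)) := AddCommGroup.zmodModule (n := 2) fun x => by
    rw [two_nsmul]
    exact hsq x.toMul
  let N : Subgroup f.ker :=
    { carrier := {p | ψ p.1.1 = 0}
      one_mem' := ψ1
      mul_mem' := fun {p r} (hp : ψ p.1.1 = 0) (hr : ψ r.1.1 = 0) => by
        show ψ (p.1.1 * r.1.1) = 0
        rw [hψ, hp, hr, add_zero]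
      inv_mem' := fun {p} hp => ψinv _ hp }
  obtain ⟨T, hT⟩ := Submodule.exists_isCompl
    (AddSubgroup.toZModSubmodule 2 (Subgroup.toAddSubgroup (N.map (QuotientGroup.mk' Δ))))
  let M : Subgroup f.ker := (Subgroup.toAddSubgroup.symm T.toAddSubgroup).comap (QuotientGroup.mk' Δ)
  have hMN : ∀ p ∈ M, p ∈ N → p ∈ Δ := by
    intro p hp hn
    have h0 := Submodule.disjoint_def.mp hT.disjoint (Additive.ofMul (p : f.ker ⧸ Δ)) ⟨p, hn, rfl⟩ hp
    exact (QuotientGroup.eq_one_iff p).mp h0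
  have hsup : ∀ p : f.ker, ∃ m ∈ M, ∃ n ∈ N, p = m * n := by
    intro p
    have hp : Additive.ofMul (p : f.ker ⧸ Δ) ∈
        AddSubgroup.toZModSubmodule 2 (Subgroup.toAddSubgroup (N.map (QuotientGroup.mk' Δ))) ⊔ T :=
      hT.sup_eq_top ▸ Submodule.mem_top
    obtain ⟨a, ⟨n, hn, ha⟩, b, hb, hab⟩ := Submodule.mem_sup.mp hp
    refine ⟨p * n⁻¹, ?_, n, hn, by group⟩
    show Additive.ofMul ((p * n⁻¹ : f.ker) : f.ker ⧸ Δ) ∈ T
    have e : Additive.ofMul ((p * n⁻¹ : f.ker) : f.ker ⧸ Δ) = b := by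
      have e1 : a + b = Additive.ofMul (p : f.ker ⧸ Δ) := hab
      have e2 : Additive.ofMul (n : f.ker ⧸ Δ) = a := ha
      rw [QuotientGroup.mk_mul, QuotientGroup.mk_inv, ofMul_mul, ofMul_inv, e2, ← e1]
      abel
    rw [e]
    exact hb
  have hadj : ∀ g h, ψ g = ψ' h → ∃ m ∈ M, ∃ c c', ψ c = 0 ∧ ψ' c' = 0 ∧ g = m.1.1 * c ∧ h = m.1.2 * c' := by
    intro g h e
    obtain ⟨m, hm, n, hn, e1⟩ := hsup ⟨(g, h), (memK (g, h)).mpr e⟩
    have e2 := congrArg Subtype.val e1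
    exact ⟨m, hm, n.1.1, n.1.2, hn, ((memK n.1).mp n.2).symm.trans hn, congrArg Prod.fst e2, congrArg Prod.snd e2⟩
  have hΔM : ∀ p ∈ Δ, p ∈ M := fun p hp => by
    show Additive.ofMul (p : f.ker ⧸ Δ) ∈ T
    rw [(QuotientGroup.eq_one_iff p).mpr hp]
    exact T.zero_mem
  let p₁ : M →* G := (MonoidHom.fst G H).comp (f.ker.subtype.comp M.subtype)
  let p₂ : M →* H := (MonoidHom.snd G H).comp (f.ker.subtype.comp M.subtype)
  have hi₁ : Function.Injective p₁ := (injective_iff_map_eq_one p₁).mpr fun m hm => by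
    have hm' : (m : f.ker).1.1 = 1 := hm
    obtain ⟨-, hd⟩ := hMN m m.2 (show ψ (m : f.ker).1.1 = 0 by rw [hm', ψ1])
    rw [hm', z1] at hd
    refine Subtype.ext (Subtype.ext (Prod.ext hm' (hzi' _ ?_ hd.symm)))
    rw [← (memK (m : f.ker).1).mp (m : f.ker).2, hm', ψ1]
  have hi₂ : Function.Injective p₂ := (injective_iff_map_eq_one p₂).mpr fun m hm => by
    have hm' : (m : f.ker).1.2 = 1 := hm
    have h0 : ψ (m : f.ker).1.1 = 0 := by rw [(memK (m : f.ker).1).mp (m : f.ker).2, hm', ψ'1]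
    obtain ⟨-, hd⟩ := hMN m m.2 h0
    rw [hm', z'1] at hd
    exact Subtype.ext (Subtype.ext (Prod.ext (hzi _ h0 hd) hm'))
  have hs₁ : Function.Surjective p₁ := fun g => by
    obtain ⟨h, hh⟩ := hψs' (ψ g)
    obtain ⟨m, hm, c, c', h0, -, rfl, -⟩ := hadj g h hh.symm
    obtain ⟨d, hd0, hd⟩ := hzs' (z c)
    exact ⟨⟨m * ⟨(c, d), (memK (c, d)).mpr (h0.trans hd0.symm)⟩,
      M.mul_mem hm (hΔM _ ⟨h0, hd.symm⟩)⟩, rfl⟩
  have hs₂ : Function.Surjective p₂ := fun h => by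
    obtain ⟨g, hg⟩ := hψs (ψ' h)
    obtain ⟨m, hm, c, c', -, h0, -, rfl⟩ := hadj g h hg
    obtain ⟨d, hd0, hd⟩ := hzs (z' c')
    exact ⟨⟨m * ⟨(d, c'), (memK (d, c')).mpr (hd0.trans h0.symm)⟩,
      M.mul_mem hm (hΔM _ ⟨hd0, hd⟩)⟩, rfl⟩
  exact ⟨(MulEquiv.ofBijective p₁ ⟨hi₁, hs₁⟩).symm.trans (MulEquiv.ofBijective p₂ ⟨hi₂, hs₂⟩)⟩

end Cfsg.Lib.PGroups.Singer
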