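import Cfsg.Agent.PGroups.Singer.Maps

/-!
An involution commuting with an automorphism which is transitive on the nontrivial fixed points.
-/

set_option autoImplicit false
set_option linter.style.haveILetI false
set_option linter.unusedSectionVars false

namespace Cfsg.Lib.PGroups.Singer

universe u

/-- A nontrivial invariant central subgroup of a `2`-group contains a nontrivial fixed point of an involution. -/
theorem exists_fixed_mem {G : Type u} [Group G] (hG : IsPGroup 2 G) (α : MulAut G) (hα : ∀ x, α (α x) = x)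
    (H : Subgroup G) (hH : H ≤ Subgroup.center G) (hinv : ∀ x ∈ H, α x ∈ H) {x : G} (hx : x ∈ H) (hx1 : x ≠ 1) :
    ∃ z ∈ H, z ≠ 1 ∧ α z = z := by
  classical
  obtain ⟨z, hz, hz1, hz2⟩ : ∃ z ∈ H, z ≠ 1 ∧ z * z = 1 := by
    have hex : ∃ k : ℕ, x ^ 2 ^ k = 1 := hG x
    have hk := Nat.find_spec hex
    obtain ⟨k, hk'⟩ : ∃ k, Nat.find hex = k + 1 := by
      refine Nat.exists_eq_succ_of_ne_zero fun h0 => hx1 ?_
      simpa [h0] using hk
    refine ⟨x ^ 2 ^ k, pow_mem hx _, Nat.find_min hex (by omega), ?_⟩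
    rw [← pow_add, ← two_mul, ← pow_succ', ← hk']
    exact hk
  by_cases hf : α z = z
  · exact ⟨z, hz, hz1, hf⟩
  refine ⟨z * α z, mul_mem hz (hinv z hz), fun h => hf ?_, ?_⟩
  · rw [eq_inv_of_mul_eq_one_right h, inv_eq_of_mul_eq_one_right hz2]
  · rw [map_mul, hα]
    exact (Subgroup.mem_center_iff.mp (hH hz) (α z))

/-- A nontrivial `2`-group with an involutory automorphism has a nontrivial central fixed point. -/
theorem exists_fixed_central {G : Type u} [Group G] [Finite G] [Nontrivial G] (hG : IsPGroup 2 G) (α : MulAut G)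
    (hα : ∀ x, α (α x) = x) : ∃ z ∈ Subgroup.center G, z ≠ 1 ∧ α z = z := by
  haveI : Fact (Nat.Prime 2) := ⟨Nat.prime_two⟩
  haveI := hG.center_nontrivial
  obtain ⟨⟨x, hx⟩, hx1⟩ := exists_ne (1 : Subgroup.center G)
  refine exists_fixed_mem hG α hα _ le_rfl (fun z hz => ?_) hx (fun h => hx1 (Subtype.ext h))
  rw [Subgroup.mem_center_iff] at hz ⊢
  intro g
  obtain ⟨g, rfl⟩ := α.surjective g
  rw [← map_mul, ← map_mul, hz]

/-- The data: the fixed points of `α` are an `F`-line on which `ρ` is multiplication by a generator of `Fˣ`. -/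
structure Hyp (Q : Type u) [Group Q] (F : Type) [Field F] [Fintype F] where
  α : MulAut Q
  ρ : MulAut Q
  ω : F
  e : Q → F
  two : IsPGroup 2 Q
  hα : ∀ x, α (α x) = x
  comm : ∀ x, α (ρ x) = ρ (α x)
  period : ∀ x, (ρ ^ (Fintype.card F - 1)) x = x
  gen : ∀ x : F, x ≠ 0 → ∃ k : ℕ, ω ^ k = x
  ω_ne : ω ≠ 0
  e_mul : ∀ x y, α x = x → α y = y → e (x * y) = e x + e y
  e_inj : ∀ x, α x = x → e x = 0 → x = 1
  e_surj : ∀ f, ∃ x, α x = x ∧ e x = f
  e_ρ : ∀ x, α x = x → e (ρ x) = ω * e x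

variable {Q : Type u} [Group Q] {F : Type} [Field F] [Fintype F] [CharP F 2] (H : Hyp Q F)

/-- The twisted commutator with `α`. -/
def Hyp.δ (x : Q) : Q := x⁻¹ * H.α x

/-- The commutator. -/
def κ (x y : Q) : Q := x⁻¹ * y⁻¹ * x * y

theorem κ_map {R : Type*} [Group R] {E : Type*} [FunLike E Q R] [MonoidHomClass E Q R] (f : E) (x y : Q) :
    f (κ x y) = κ (f x) (f y) := by simp [κ]

theorem κ_eq_one {x y : Q} : κ x y = 1 ↔ x * y = y * x := by
  rw [κ, mul_assoc, ← mul_inv_rev, inv_mul_eq_one, eq_comm]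

theorem κ_mul_left (x y z : Q) : κ (x * y) z = y⁻¹ * κ x z * y * κ y z := by simp only [κ]; group

theorem κ_mul_right (x y z : Q) : κ x (y * z) = κ x z * (z⁻¹ * κ x y * z) := by simp only [κ]; group

theorem κ_squares (x y : Q) : κ x y = (x * x)⁻¹ * (x * y⁻¹ * (x * y⁻¹)) * (y * y) := by simp only [κ]; group

namespace Hyp

theorem fix_one : H.α 1 = 1 := map_one _

theorem fix_mul {x y : Q} (hx : H.α x = x) (hy : H.α y = y) : H.α (x * y) = x * y := by rw [map_mul, hx, hy]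

theorem fix_inv {x : Q} (hx : H.α x = x) : H.α x⁻¹ = x⁻¹ := by rw [map_inv, hx]

theorem fix_ρ {x : Q} (hx : H.α x = x) : H.α (H.ρ x) = H.ρ x := by rw [H.comm, hx]

theorem e_one : H.e 1 = 0 := by
  have h := H.e_mul 1 1 H.fix_one H.fix_one
  rw [mul_one, left_eq_add] at h
  exact h

theorem sq_fix {x : Q} (hx : H.α x = x) : x * x = 1 :=
  H.e_inj _ (H.fix_mul hx hx) (by rw [H.e_mul x x hx hx, CharTwo.add_self_eq_zero])

theorem inv_fix {x : Q} (hx : H.α x = x) : x⁻¹ = x := inv_eq_of_mul_eq_one_right (H.sq_fix hx)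

theorem e_inv {x : Q} (hx : H.α x = x) : H.e x⁻¹ = H.e x := by rw [H.inv_fix hx]

theorem e_eq {x y : Q} (hx : H.α x = x) (hy : H.α y = y) (h : H.e x = H.e y) : x = y := by
  have h1 := H.e_inj _ (H.fix_mul hx hy) (by rw [H.e_mul x y hx hy, h, CharTwo.add_self_eq_zero])
  rw [eq_inv_of_mul_eq_one_left h1, H.inv_fix hy]

theorem e_ρ_pow {x : Q} (hx : H.α x = x) (k : ℕ) :
    H.α ((H.ρ ^ k) x) = (H.ρ ^ k) x ∧ H.e ((H.ρ ^ k) x) = H.ω ^ k * H.e x := by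
  induction k with
  | zero => simp [hx]
  | succ k ih =>
    rw [pow_succ', MulAut.mul_apply, pow_succ', mul_assoc]
    exact ⟨H.fix_ρ ih.1, by rw [H.e_ρ _ ih.1, ih.2]⟩

/-- An invariant additive set of values with a nonzero member is everything. -/
theorem spans (S : Set F) (h0 : (0 : F) ∈ S) (hω : ∀ f ∈ S, H.ω * f ∈ S) {b : F} (hb : b ∈ S) (hb0 : b ≠ 0) (f : F) :
    f ∈ S := by
  by_cases hf : f = 0
  · rw [hf]; exact h0
  obtain ⟨k, hk⟩ := H.gen (f / b) (div_ne_zero hf hb0)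
  rw [show f = H.ω ^ k * b by rw [hk, div_mul_cancel₀ _ hb0]]
  clear hk
  induction k with
  | zero => simpa using hb
  | succ k ih => rw [pow_succ', mul_assoc]; exact hω _ ih

theorem ω_pow : H.ω ^ (Fintype.card F - 1) = 1 := FiniteField.pow_card_sub_one_eq_one _ H.ω_ne

/-- An invariant set with a nontrivial fixed point contains every fixed point. -/
theorem fix_subset (S : Set Q) (hS : ∀ x ∈ S, H.ρ x ∈ S) (h1 : (1 : Q) ∈ S) {z : Q} (hz : z ∈ S) (hzf : H.α z = z)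
    (hz1 : z ≠ 1) {c : Q} (hc : H.α c = c) : c ∈ S := by
  obtain ⟨x, ⟨hx, hxf⟩, hxe⟩ := H.spans {f | ∃ x, (x ∈ S ∧ H.α x = x) ∧ H.e x = f} ⟨1, ⟨h1, H.fix_one⟩, H.e_one⟩
    (by
      rintro _ ⟨x, ⟨hx, hxf⟩, rfl⟩
      exact ⟨H.ρ x, ⟨hS x hx, H.fix_ρ hxf⟩, H.e_ρ x hxf⟩)
    ⟨z, ⟨hz, hzf⟩, rfl⟩ (fun h => hz1 (H.e_inj z hzf h)) (H.e c)
  rwa [← H.e_eq hxf hc hxe]

theorem central [Finite Q] {c : Q} (hc : H.α c = c) (g : Q) : g * c = c * g := by
  by_cases hc1 : c = 1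
  · simp [hc1]
  haveI : Nontrivial Q := ⟨⟨c, 1, hc1⟩⟩
  obtain ⟨z, hz, hz1, hzf⟩ := exists_fixed_central H.two H.α H.hα
  exact Subgroup.mem_center_iff.mp (H.fix_subset (Subgroup.center Q : Set Q) (fun x hx => by
    rw [SetLike.mem_coe, Subgroup.mem_center_iff] at hx ⊢
    intro g
    obtain ⟨g, rfl⟩ := H.ρ.surjective g
    rw [← map_mul, ← map_mul, hx]) (Subgroup.center Q).one_mem hz hzf hz1 hc) g

theorem α_δ (x : Q) : H.α (H.δ x) = (H.δ x)⁻¹ := by simp [δ, H.hα]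

theorem α_eq (x : Q) : H.α x = x * H.δ x := by simp [δ]

theorem δ_ρ (x : Q) : H.δ (H.ρ x) = H.ρ (H.δ x) := by simp [δ, H.comm]

theorem δ_eq_one {x : Q} : H.δ x = 1 ↔ H.α x = x := by rw [δ, inv_mul_eq_one, eq_comm]

theorem δ_δ (x : Q) : H.δ (H.δ x) = (H.δ x * H.δ x)⁻¹ := by
  show (H.δ x)⁻¹ * H.α (H.δ x) = _
  rw [H.α_δ, mul_inv_rev]

variable [Finite Q]

theorem δ_mul_fix (x : Q) {c : Q} (hc : H.α c = c) : H.δ (x * c) = H.δ x := by
  rw [δ, map_mul, hc, mul_inv_rev, H.central hc (H.α x), mul_assoc, ← mul_assoc x⁻¹, H.central hc x⁻¹, mul_assoc,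
    inv_mul_cancel_left]
  rfl

theorem δ_mul {x : Q} (hx : H.α (H.δ x) = H.δ x) (y : Q) : H.δ (x * y) = H.δ x * H.δ y := by
  have h := H.central hx y⁻¹
  calc H.δ (x * y) = y⁻¹ * H.δ x * H.α y := by simp [δ, mul_assoc]
    _ = H.δ x * y⁻¹ * H.α y := by rw [h]
    _ = H.δ x * H.δ y := by rw [mul_assoc]; rfl

/-- The elements moved by a fixed element only. -/
def sD : Subgroup Q where
  carrier := {x | H.α (H.δ x) = H.δ x}
  one_mem' := by simp [δ]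
  mul_mem' {x y} hx hy := by
    show H.α (H.δ (x * y)) = H.δ (x * y)
    rw [H.δ_mul hx]
    exact H.fix_mul hx hy
  inv_mem' {x} (hx : H.α (H.δ x) = H.δ x) := by
    show H.α (H.δ x⁻¹) = H.δ x⁻¹
    have h := H.δ_mul hx x⁻¹
    rw [mul_inv_cancel, H.δ_eq_one.mpr H.fix_one] at h
    rw [eq_inv_of_mul_eq_one_right h.symm]
    exact H.fix_inv hx

theorem mem_sD {x : Q} : x ∈ H.sD ↔ H.α (H.δ x) = H.δ x := Iff.rfl

theorem e_κ_left {x y z : Q} (hx : H.α (κ x z) = κ x z) (hy : H.α (κ y z) = κ y z) :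
    H.α (κ (x * y) z) = κ (x * y) z ∧ H.e (κ (x * y) z) = H.e (κ x z) + H.e (κ y z) := by
  rw [κ_mul_left, H.central hx y⁻¹, mul_assoc (κ x z) y⁻¹ y, inv_mul_cancel, mul_one]
  exact ⟨H.fix_mul hx hy, H.e_mul _ _ hx hy⟩

theorem e_κ_right {x y z : Q} (hy : H.α (κ x y) = κ x y) (hz : H.α (κ x z) = κ x z) :
    H.α (κ x (y * z)) = κ x (y * z) ∧ H.e (κ x (y * z)) = H.e (κ x y) + H.e (κ x z) := by
  rw [κ_mul_right, H.central hy z⁻¹, mul_assoc (κ x y) z⁻¹ z, inv_mul_cancel, mul_one]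
  exact ⟨H.fix_mul hz hy, by rw [H.e_mul _ _ hz hy, add_comm]⟩

theorem e_κ_fix {c : Q} (hc : H.α c = c) (y : Q) : κ c y = 1 ∧ κ y c = 1 :=
  ⟨κ_eq_one.mpr (H.central hc y).symm, κ_eq_one.mpr (H.central hc y)⟩

/-- A subgroup whose commutator pairing factors through one copy of `F` is commutative. -/
theorem comm_trivial (T : Subgroup Q) (hT : ∀ x ∈ T, H.ρ x ∈ T) (a : Q → F)
    (ha : ∀ x ∈ T, ∀ y ∈ T, a (x * y) = a x + a y) (haρ : ∀ x ∈ T, a (H.ρ x) = H.ω * a x)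
    (has : ∀ f, ∃ x ∈ T, a x = f) (hκ : ∀ x ∈ T, ∀ y ∈ T, H.α (κ x y) = κ x y)
    (hdeg : ∀ d ∈ T, a d = 0 → ∀ y ∈ T, H.e (κ d y) = 0) : ∀ x ∈ T, ∀ y ∈ T, x * y = y * x := by
  have hsymm : ∀ x ∈ T, ∀ y ∈ T, H.e (κ y x) = H.e (κ x y) := fun x hx y hy => by
    rw [show κ y x = (κ x y)⁻¹ by simp only [κ]; group, H.e_inv (hκ x hx y hy)]
  have hl : ∀ x ∈ T, ∀ x' ∈ T, a x = a x' → ∀ y ∈ T, H.e (κ x y) = H.e (κ x' y) := by
    intro x hx x' hx' he y hy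
    have hd : x'⁻¹ * x ∈ T := mul_mem (inv_mem hx') hx
    have h1 := ha x' hx' _ hd
    rw [mul_inv_cancel_left, he, left_eq_add] at h1
    have h2 := (H.e_κ_left (hκ x' hx' y hy) (hκ _ hd y hy)).2
    rw [mul_inv_cancel_left, hdeg _ hd h1 y hy, add_zero] at h2
    exact h2
  have hr : ∀ y ∈ T, ∀ y' ∈ T, a y = a y' → ∀ x ∈ T, H.e (κ x y) = H.e (κ x y') := by
    intro y hy y' hy' he x hx
    rw [← hsymm x hx y hy, ← hsymm x hx y' hy', hl y hy y' hy' he x hx]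
  choose s hsT hs using has
  have key : ∀ u v, H.e (κ (s u) (s v)) = 0 := by
    refine pair_alternating H.gen (fun u v => H.e (κ (s u) (s v))) (fun u u' v => ?_) (fun u v v' => ?_)
      (fun u => ?_) (fun u v => ?_)
    · rw [hl (s (u + u')) (hsT _) (s u * s u') (mul_mem (hsT _) (hsT _))
        (by rw [ha _ (hsT _) _ (hsT _), hs, hs, hs]) (s v) (hsT v)]
      exact (H.e_κ_left (hκ _ (hsT _) _ (hsT _)) (hκ _ (hsT _) _ (hsT _))).2
    · rw [hr (s (v + v')) (hsT _) (s v * s v') (mul_mem (hsT _) (hsT _))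
        (by rw [ha _ (hsT _) _ (hsT _), hs, hs, hs]) (s u) (hsT u)]
      exact (H.e_κ_right (hκ _ (hsT _) _ (hsT _)) (hκ _ (hsT _) _ (hsT _))).2
    · rw [κ_eq_one.mpr rfl, H.e_one]
    · rw [hl (s (H.ω * u)) (hsT _) (H.ρ (s u)) (hT _ (hsT _)) (by rw [haρ _ (hsT _), hs, hs]) _ (hsT _),
        hr (s (H.ω * v)) (hsT _) (H.ρ (s v)) (hT _ (hsT _)) (by rw [haρ _ (hsT _), hs, hs]) _ (hT _ (hsT _)),
        ← κ_map, H.e_ρ _ (hκ _ (hsT _) _ (hsT _))]
  intro x hx y hy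
  rw [← κ_eq_one]
  refine H.e_inj _ (hκ x hx y hy) ?_
  rw [hl x hx (s (a x)) (hsT _) (hs _).symm y hy, hr y hy (s (a y)) (hsT _) (hs _).symm _ (hsT _), key]

end Hyp

end Cfsg.Lib.PGroups.Singer
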