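import Cfsg.Agent.SuzukiTwo.Field

/-!
Equivariant maps and pairings on a field with a chosen generator of the multiplicative group.
-/

set_option autoImplicit false

namespace Cfsg.Lib.PGroups.Singer

variable {F : Type*} [Field F] {ω : F}

/-- A map commuting with a generator commutes with every nonzero scalar. -/
theorem smul_all (hgen : ∀ x : F, x ≠ 0 → ∃ k : ℕ, ω ^ k = x) (L : F → F) (hω : ∀ x, L (ω * x) = ω * L x)
    (l x : F) (hl : l ≠ 0) : L (l * x) = l * L x := by
  obtain ⟨k, rfl⟩ := hgen l hl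
  induction k with
  | zero => simp
  | succ k ih =>
    rw [pow_succ', mul_assoc, hω, ih (fun h => hl (by rw [pow_succ', h, mul_zero])), mul_assoc]

/-- An additive map commuting with a generator is multiplication by a scalar. -/
theorem linear_of_equivariant (hgen : ∀ x : F, x ≠ 0 → ∃ k : ℕ, ω ^ k = x) (L : F → F)
    (hadd : ∀ x y, L (x + y) = L x + L y) (hω : ∀ x, L (ω * x) = ω * L x) (x : F) : L x = L 1 * x := by
  by_cases hx : x = 0
  · subst hx
    have h := hadd 0 0
    rw [add_zero, left_eq_add] at h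
    rw [h, mul_zero]
  · have h := smul_all hgen L hω x 1 hx
    rw [mul_one] at h
    rw [h, mul_comm]

/-- A pairing commuting with a generator commutes with every nonzero scalar. -/
theorem pair_smul_all (hgen : ∀ x : F, x ≠ 0 → ∃ k : ℕ, ω ^ k = x) (P : F → F → F)
    (hω : ∀ x y, P (ω * x) (ω * y) = ω * P x y) (l x y : F) (hl : l ≠ 0) : P (l * x) (l * y) = l * P x y := by
  obtain ⟨k, rfl⟩ := hgen l hl
  induction k with
  | zero => simp
  | succ k ih =>
    rw [pow_succ', mul_assoc, mul_assoc, hω, ih (fun h => hl (by rw [pow_succ', h, mul_zero])), mul_assoc]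

/-- An equivariant alternating pairing vanishes. -/
theorem pair_alternating [Fintype F] [CharP F 2] (hgen : ∀ x : F, x ≠ 0 → ∃ k : ℕ, ω ^ k = x) (P : F → F → F)
    (hl : ∀ a b c, P (a + b) c = P a c + P b c) (hr : ∀ a b c, P a (b + c) = P a b + P a c)
    (halt : ∀ a, P a a = 0) (hω : ∀ x y, P (ω * x) (ω * y) = ω * P x y) : ∀ a b, P a b = 0 :=
  Cfsg.Lib.SuzukiTwo.alternating_eq_zero P hl hr halt fun l a b => pair_smul_all hgen P hω l a b

/-- The square of an equivariant pairing is a multiple of the product. -/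
theorem pair_sq [Fintype F] [CharP F 2] (hgen : ∀ x : F, x ≠ 0 → ∃ k : ℕ, ω ^ k = x) (P : F → F → F)
    (hl : ∀ a b c, P (a + b) c = P a c + P b c) (hr : ∀ a b c, P a (b + c) = P a b + P a c)
    (hω : ∀ x y, P (ω * x) (ω * y) = ω * P x y) : ∃ c : F, ∀ a b, P a b ^ 2 = c * (a * b) := by
  have hs := pair_smul_all hgen P hω
  have hz : ∀ b, P 0 b = 0 := fun b => by simpa using hl 0 0 b
  have hz' : ∀ a, P a 0 = 0 := fun a => by simpa using hr a 0 0
  set h : F → F := fun z => P 1 z with hh
  have hgen' : ∀ x y, x ≠ 0 → P x y = x * h (y / x) := fun x y hx => by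
    rw [hh, ← hs x 1 (y / x) hx, mul_one, mul_div_cancel₀ _ hx]
  have hsq : ∀ z, h (z * z) = z * h 1 := by
    intro z
    by_cases h0 : z = 0
    · simp [h0, hh, hz']
    by_cases h1 : 1 + z = 0
    · rw [← CharTwo.add_eq_zero.mp h1, mul_one, one_mul]
    have hw : z * (1 + z) ≠ 0 := mul_ne_zero h0 h1
    -- additivity in the first variable at `1 / (z + z²) = 1 / z + 1 / (1 + z)`
    have e : 1 / (z * (1 + z)) = 1 / z + 1 / (1 + z) := by
      field_simp
      linear_combination (-z) * (CharTwo.two_eq_zero (R := F))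
    have e1 := hl (1 / z) (1 / (1 + z)) 1
    rw [← e, hgen' _ _ (one_div_ne_zero hw), hgen' _ _ (one_div_ne_zero h0), hgen' _ _ (one_div_ne_zero h1),
      one_div_one_div, one_div_one_div, one_div_one_div] at e1
    have a1 : h (z * (1 + z)) = h z + h (z * z) := by rw [mul_add, mul_one]; exact hr 1 z (z * z)
    have a2 : h (1 + z) = h 1 + h z := hr 1 1 z
    rw [a1, a2] at e1
    field_simp at e1
    rw [← sq]
    linear_combination e1 + (z * h z) * (CharTwo.two_eq_zero (R := F))
  refine ⟨h 1 ^ 2, fun a b => ?_⟩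
  by_cases ha : a = 0
  · simp [ha, hz]
  obtain ⟨s, hs⟩ := Cfsg.Lib.SuzukiTwo.isSquare_all (b / a)
  rw [hgen' a b ha, ← hs, hsq, show b = a * (s * s) by rw [hs, mul_div_cancel₀ _ ha]]
  ring

end Cfsg.Lib.PGroups.Singer
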