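import Cfsg.Agent.PGroups.Singer.Shape
import Cfsg.Agent.PGroups.Singer.Ext
import Cfsg.Agent.SuzukiTwo.Unitary
import Cfsg.Agent.Known.AutPSLn.Sylow

/-!
The two model groups.
-/

set_option autoImplicit false
set_option linter.style.haveILetI false
set_option linter.unusedSectionVars false

namespace Cfsg.Lib.PGroups.Singer

open Matrix Cfsg.Lib.Classical Cfsg.Lib.Fusion.PSU Cfsg.Lib.Known.AutPSLn

universe u

variable {Q : Type u} [Group Q] [Finite Q] {F : Type} [Field F] [Fintype F] [CharP F 2] {H : Hyp Q F}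

/-- The hypotheses of the comparison lemma which do not mention the target. -/
theorem Shape.z_spec (S : Shape H) :
    (∀ x y : Q, H.α x = x → H.α y = y → H.e (x * y) ^ 2 / S.μ = H.e x ^ 2 / S.μ + H.e y ^ 2 / S.μ) ∧
      (∀ x : Q, H.α x = x → H.e x ^ 2 / S.μ = 0 → x = 1) ∧
      ∀ w : F, ∃ x : Q, H.α x = x ∧ H.e x ^ 2 / S.μ = w := by
  refine ⟨fun x y hx hy => by rw [H.e_mul x y hx hy, CharTwo.add_sq, add_div], fun x hx h => ?_, fun w => ?_⟩
  · rw [div_eq_zero_iff, sq_eq_zero_iff, or_iff_left S.μ_ne] at h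
    exact H.e_inj x hx h
  · obtain ⟨t, ht⟩ := Cfsg.Lib.SuzukiTwo.isSquare_all (w * S.μ)
    obtain ⟨x, hx, hxe⟩ := H.e_surj t
    exact ⟨x, hx, by rw [hxe, pow_two, ht, mul_div_cancel_right₀ _ S.μ_ne]⟩

theorem Shape.sq_div (S : Shape H) (x : Q) :
    H.e (x * x) ^ 2 / S.μ = S.A x ^ 2 + S.A x * S.B x + S.m * S.B x ^ 2 := by
  rw [S.sq, mul_div_cancel_left₀ _ S.μ_ne]

/-- With a root of `X² + X + m`, the group is unitriangular. -/
theorem Shape.sylow_psl (S : Shape H) {r : F} (hr : r ^ 2 + r + S.m = 0) :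
    ∃ T : Sylow 2 (Matrix.ProjectiveSpecialLinearGroup (Fin 3) F),
      Nonempty (Q ≃* ↥(T : Subgroup (Matrix.ProjectiveSpecialLinearGroup (Fin 3) F))) := by
  classical
  haveI : Fact (Nat.Prime 2) := ⟨Nat.prime_two⟩
  obtain ⟨P, hP⟩ := exists_sylow_upperUni (F := F) (n := 3) 2
  let U := (P : Subgroup (Matrix.SpecialLinearGroup (Fin 3) F))
  let M : U → Matrix (Fin 3) (Fin 3) F := fun g => ((g : Matrix.SpecialLinearGroup (Fin 3) F) : Matrix (Fin 3) (Fin 3) F)
  have hent : ∀ g : U, IsUpperUni (M g) := fun g => hP.le g.2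
  have hmul : ∀ g h : U, M (g * h) 0 1 = M g 0 1 + M h 0 1 ∧ M (g * h) 1 2 = M g 1 2 + M h 1 2 ∧
      M (g * h) 0 2 = M g 0 2 + M h 0 2 + M g 0 1 * M h 1 2 := by
    intro g h
    have p1 := hent g
    have p2 := hent h
    have e : M (g * h) = M g * M h := rfl
    simp only [e, Matrix.mul_apply, Fin.sum_univ_three, p1 0 0 le_rfl, p1 1 0 (by decide), p1 1 1 le_rfl,
      p2 1 1 le_rfl, p2 2 1 (by decide), p2 2 2 le_rfl, if_true, show (1 : Fin 3) ≠ 0 from by decide,
      show (2 : Fin 3) ≠ 1 from by decide, if_false]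
    refine ⟨by ring, by ring, by ring⟩
  have hext : ∀ g h : U, M g 0 1 = M h 0 1 → M g 1 2 = M h 1 2 → M g 0 2 = M h 0 2 → g = h := fun g h h1 h2 h3 => by
    refine Subtype.ext (Subtype.ext (Matrix.ext fun i j => ?_))
    show M g i j = M h i j
    rcases le_or_gt j i with hji | hij
    · rw [hent g i j hji, hent h i j hji]
    · fin_cases i <;> fin_cases j <;> first | exact absurd hij (by decide) | exact h1 | exact h2 | exact h3
  have hone : M 1 0 1 = 0 ∧ M 1 1 2 = 0 ∧ M 1 0 2 = 0 := by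
    simp [M]
  have hmk : ∀ a b c : F, ∃ g : U, M g 0 1 = a ∧ M g 1 2 = b ∧ M g 0 2 = c := fun a b c => by
    have hdet : (!![1, a, c; 0, 1, b; 0, 0, 1] : Matrix (Fin 3) (Fin 3) F).det = 1 := by simp [Matrix.det_fin_three]
    have hu : IsUpperUni (!![1, a, c; 0, 1, b; 0, 0, 1] : Matrix (Fin 3) (Fin 3) F) := fun i j hji => by
      fin_cases i <;> fin_cases j <;> simp_all
    exact ⟨⟨⟨_, hdet⟩, hP.ge hu⟩, rfl, rfl, rfl⟩
  obtain ⟨hz, hzi, hzs⟩ := S.z_spec
  have hker : ∀ x, ((S.A x + r * S.B x, S.A x + (r + 1) * S.B x) : F × F) = 0 ↔ H.α x = x := fun x => by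
    rw [S.ker, Prod.mk_eq_zero]
    constructor
    · rintro ⟨h1, h2⟩
      have hB : S.B x = 0 := by linear_combination h2 - h1
      exact ⟨by rw [hB, mul_zero, add_zero] at h1; exact h1, hB⟩
    · rintro ⟨h1, h2⟩
      simp [h1, h2]
  obtain ⟨E⟩ := ext_iso (G := Q) (H := U) (V := F × F) (W := F) (fun v => CharTwo.add_self_eq_zero v)
    (fun x => (S.A x + r * S.B x, S.A x + (r + 1) * S.B x)) (fun g => (M g 0 1, M g 1 2))
    (fun x => H.e x ^ 2 / S.μ) (fun g => M g 0 2)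
    (fun x y => by rw [S.A_mul, S.B_mul]; exact Prod.ext (by show _ = _ + _; ring) (by show _ = _ + _; ring))
    (fun v => by
      obtain ⟨x, hA, hB⟩ := S.surj (v.1 + r * (v.1 + v.2)) (v.1 + v.2)
      refine ⟨x, Prod.ext ?_ ?_⟩
      · show S.A x + r * S.B x = v.1
        rw [hA, hB]
        linear_combination (r * (v.1 + v.2)) * (CharTwo.two_eq_zero (R := F))
      · show S.A x + (r + 1) * S.B x = v.2
        rw [hA, hB]
        linear_combination (r * (v.1 + v.2) + v.1) * (CharTwo.two_eq_zero (R := F)))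
    (fun g h => Prod.ext (hmul g h).1 (hmul g h).2.1)
    (fun v => by obtain ⟨g, h1, h2, -⟩ := hmk v.1 v.2 0; exact ⟨g, Prod.ext h1 h2⟩)
    (fun x hx => H.central ((hker x).mp hx))
    (fun g hg h => by
      obtain ⟨g1, g2⟩ := Prod.mk_eq_zero.mp hg
      obtain ⟨a1, a2, a3⟩ := hmul h g
      obtain ⟨b1, b2, b3⟩ := hmul g h
      refine hext _ _ (by rw [a1, b1, add_comm]) (by rw [a2, b2, add_comm]) ?_
      rw [a3, b3, g1, g2]
      ring)
    (fun x y hx hy => hz x y ((hker x).mp hx) ((hker y).mp hy))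
    (fun g h hg hh => by
      obtain ⟨g1, g2⟩ := Prod.mk_eq_zero.mp hg
      rw [(hmul g h).2.2, g1, zero_mul, add_zero])
    (fun x hx h => hzi x ((hker x).mp hx) h)
    (fun g hg h => hext g 1 ((Prod.mk_eq_zero.mp hg).1.trans hone.1.symm) ((Prod.mk_eq_zero.mp hg).2.trans hone.2.1.symm)
      (h.trans hone.2.2.symm))
    (fun w => by obtain ⟨x, hx, h⟩ := hzs w; exact ⟨x, (hker x).mpr hx, h⟩)
    (fun w => by obtain ⟨g, h1, h2, h3⟩ := hmk 0 0 w; exact ⟨g, Prod.ext h1 h2, h3⟩)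
    (fun x g he => by
      have e1 : M g 0 1 = S.A x + r * S.B x := (congrArg Prod.fst he).symm
      have e2 : M g 1 2 = S.A x + (r + 1) * S.B x := (congrArg Prod.snd he).symm
      rw [S.sq_div, (hmul g g).2.2, e1, e2]
      linear_combination (S.B x ^ 2) * hr - (M g 0 2 + r * S.A x * S.B x + (r ^ 2 + r) * S.B x ^ 2) *
        (CharTwo.two_eq_zero (R := F)))
  set π := QuotientGroup.mk' (Subgroup.center (Matrix.SpecialLinearGroup (Fin 3) F)) with hπ
  have hπinj : Function.Injective (π.domRestrict U) := by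
    rw [injective_iff_map_eq_one]
    intro g hg
    have hg' : (g : Matrix.SpecialLinearGroup (Fin 3) F) ∈ Subgroup.center _ := (QuotientGroup.eq_one_iff _).1 hg
    obtain ⟨c, -, hc'⟩ := Matrix.SpecialLinearGroup.mem_center_iff.1 hg'
    have h0 := hent g 0 0 le_rfl
    simp only [M, ← hc'] at h0
    simp at h0
    refine Subtype.ext (Subtype.ext ?_)
    rw [← hc', h0]
    simp
  refine ⟨Sylow.mapSurjective (f := π) (QuotientGroup.mk'_surjective _) P, ⟨E.trans ?_⟩⟩
  exact ((MonoidHom.ofInjective hπinj).trans (MulEquiv.subgroupCongr (by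
    rw [Sylow.coe_mapSurjective, MonoidHom.domRestrict_range])))

/-- The standard unitriangular group is isomorphic to every Sylow 2-subgroup of `PSU₃`. -/
theorem sylU_equiv_sylow {K : Type} [Field K] [Fintype K] [CharP K 2] {n : ℕ}
    (hK : Fintype.card K = (2 ^ n) ^ 2) (T : Sylow 2 (Cfsg.PSU 3 K (2 ^ n))) :
    Nonempty (sylU 3 (powConj_isConj hK) ≃* ↥(T : Subgroup (Cfsg.PSU 3 K (2 ^ n)))) := by
  classical
  haveI : Fact (Nat.Prime 2) := ⟨Nat.prime_two⟩
  set hσ := powConj_isConj hK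
  obtain ⟨E⟩ := exists_equiv hK 3
  set π : antiSU 3 hσ →* Cfsg.PSU 3 K (2 ^ n) :=
    (QuotientGroup.mk' (Subgroup.center (Cfsg.SU 3 K (2 ^ n)))).comp E.toMonoidHom
  have hπ : Function.Surjective π := (QuotientGroup.mk'_surjective _).comp E.surjective
  obtain ⟨P, hP⟩ := exists_sylow (hσ := hσ) (n := 3) 2
  have hinj : Function.Injective (π.subgroupMap (sylU 3 hσ)) := by
    refine (injective_iff_map_eq_one _).mpr fun g hg => Subtype.ext (E.injective ?_)
    have hz : E g ∈ Subgroup.center (Cfsg.SU 3 K (2 ^ n)) :=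
      (QuotientGroup.eq_one_iff _).mp (congrArg Subtype.val hg)
    rw [Subgroup.coe_one, map_one, ← orderOf_eq_one_iff]
    have h1 : (E g) ^ Nat.gcd 3 (2 ^ n + 1) = 1 := by
      rw [← card_center_SU hK (show 2 ≤ 3 by omega)]
      exact congrArg Subtype.val (pow_card_eq_one' (G := Subgroup.center (Cfsg.SU 3 K (2 ^ n))) (x := ⟨E g, hz⟩))
    have h2 := (orderOf_dvd_of_pow_eq_one h1).trans (Nat.gcd_dvd_left _ _)
    obtain ⟨k, hk⟩ := isPGroup_sylU (hσ := hσ) (n := 3) 2 g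
    have h3 : orderOf (E g) ∣ 2 ^ k := orderOf_dvd_of_pow_eq_one (by
      rw [← map_pow, show (g : antiSU 3 hσ) ^ 2 ^ k = 1 from congrArg Subtype.val hk, map_one])
    exact Nat.eq_one_of_dvd_coprimes (Nat.Coprime.pow_left k (by norm_num)) h3 h2
  let e₁ : sylU 3 hσ ≃* (sylU 3 hσ).map π :=
    MulEquiv.ofBijective (π.subgroupMap (sylU 3 hσ)) ⟨hinj, π.subgroupMap_surjective _⟩
  have hT : ((P.mapSurjective hπ : Sylow 2 _) : Subgroup (Cfsg.PSU 3 K (2 ^ n))) = (sylU 3 hσ).map π := by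
    rw [Sylow.coe_mapSurjective, hP]
  exact ⟨(e₁.trans (MulEquiv.subgroupCongr hT.symm)).trans (Sylow.equiv (P.mapSurjective hπ) T)⟩

/-- Without a root of `X² + X + m`, the group is unitary. -/
theorem Shape.sylow_psu (S : Shape H) {n : ℕ} (hn : 0 < n) (hF : Fintype.card F = 2 ^ n)
    (hr : ∀ r : F, r ^ 2 + r + S.m ≠ 0) :
    ∃ (K : Type) (_ : Field K) (_ : Fintype K), Fintype.card K = 4 ^ n ∧
      ∃ T : Sylow 2 (Cfsg.PSU 3 K (2 ^ n)), Nonempty (Q ≃* ↥(T : Subgroup (Cfsg.PSU 3 K (2 ^ n)))) := by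
  classical
  haveI : Fact (Nat.Prime 2) := ⟨Nat.prime_two⟩
  let K := GaloisField 2 (2 * n)
  letI : Fintype K := Fintype.ofFinite K
  have hcard : Fintype.card K = (2 ^ n) ^ 2 := by
    rw [Fintype.card_eq_nat_card, GaloisField.card 2 (2 * n) (by omega), ← pow_mul, mul_comm]
  refine ⟨K, inferInstance, inferInstance, by rw [hcard, ← pow_mul, mul_comm, pow_mul]; norm_num, ?_⟩
  obtain ⟨T⟩ : Nonempty (Sylow 2 (Cfsg.PSU 3 K (2 ^ n))) := Sylow.nonempty
  refine ⟨T, ?_⟩
  obtain ⟨e₀⟩ := sylU_equiv_sylow hcard T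
  set hσ := powConj_isConj hcard
  set σ := powConj hcard with hσdef
  letI : Fintype (fixedField σ) := Fintype.ofFinite _
  have hfix : Fintype.card F = Fintype.card (fixedField σ) := by
    have h1 := hσ.card_eq_sq
    rw [Nat.card_eq_fintype_card (α := K), hcard] at h1
    rw [hF, Fintype.card_eq_nat_card]
    exact Nat.pow_left_injective (by norm_num) h1
  let ι := FiniteField.ringEquivOfCardEq (K := F) (K' := fixedField σ) hfix
  have hισ : ∀ a : F, σ (ι a : K) = ι a := fun a => mem_fixedField.mp (ι a).2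
  -- a root of `X² + X + m` in the larger field
  obtain ⟨θ, hθ, hθn⟩ : ∃ θ : K, θ + σ θ = 1 ∧ θ * σ θ = (ι S.m : K) := by
    obtain ⟨θ, hθ⟩ := hσ.exists_trace_one
    let f : F →+ F := AddMonoidHom.mk' (fun c => c ^ 2 + c) fun a b => by rw [CharTwo.add_sq]; ring
    set n₀ := ι.symm ⟨θ * σ θ, mem_fixedField.mpr (hσ.norm_mem θ)⟩ with hn₀
    have hn₀' : (ι n₀ : K) = θ * σ θ := by rw [hn₀, RingEquiv.apply_symm_apply]
    have hmem : ∀ x, x ∈ f.range ↔ ∃ c, c ^ 2 + c = x := fun x => AddMonoidHom.mem_range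
    have hi : f.range.index = 2 := by
      have hker : Nat.card f.ker = 2 := by
        have he : (f.ker : Set F) = {0, 1} := by
          ext c
          simp only [SetLike.mem_coe, AddMonoidHom.mem_ker, Set.mem_insert_iff, Set.mem_singleton_iff]
          show c ^ 2 + c = 0 ↔ _
          rw [show c ^ 2 + c = c * (c + 1) by ring, mul_eq_zero, CharTwo.add_eq_zero]
        rw [← SetLike.coe_sort_coe, he, Nat.card_coe_set_eq, Set.ncard_pair zero_ne_one]
      have h1 := f.range.index_mul_card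
      have h2 := f.ker.index_mul_card
      rw [AddSubgroup.index_ker, hker] at h2
      exact Nat.eq_of_mul_eq_mul_right (Nat.card_pos (α := f.range)) (by rw [h1, ← h2, mul_comm])
    have h1 : n₀ ∉ f.range := fun h => by
      obtain ⟨c, hc⟩ := (hmem _).mp h
      have hθc : (θ + (ι c : K)) * σ (θ + (ι c : K)) = 0 := by
        have h2 : (ι c : K) ^ 2 + (ι c : K) = θ * σ θ := by
          rw [← hn₀', ← hc, map_add, map_pow]; rfl
        rw [map_add, hισ]
        linear_combination (ι c : K) * hθ + h2 + (θ * σ θ) * (CharTwo.two_eq_zero (R := K))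
      rw [mul_eq_zero, hσ.eq_zero, or_self] at hθc
      rw [eq_neg_of_add_eq_zero_left hθc, map_neg, hισ] at hθ
      have h3 : (1 : K) = 0 := by
        linear_combination -hθ - (ι c : K) * (CharTwo.two_eq_zero (R := K))
      exact one_ne_zero h3
    have h2 : S.m ∉ f.range := fun h => by
      obtain ⟨c, hc⟩ := (hmem _).mp h
      exact hr c (by rw [hc, CharTwo.add_self_eq_zero])
    obtain ⟨c, hc⟩ := (hmem _).mp ((AddSubgroup.add_mem_iff_of_index_two hi).mpr (iff_of_false h1 h2))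
    have h3 : (ι c : K) ^ 2 + (ι c : K) = θ * σ θ + (ι S.m : K) := by
      rw [← hn₀']
      have h4 := congrArg (fun x => (ι x : K)) hc
      simp only [map_add, map_pow] at h4
      exact h4
    refine ⟨θ + (ι c : K), ?_, ?_⟩
    · rw [map_add, hισ]
      linear_combination hθ + (ι c : K) * (CharTwo.two_eq_zero (R := K))
    · rw [map_add, hισ]
      linear_combination (ι c : K) * hθ + h3 + (θ * σ θ) * (CharTwo.two_eq_zero (R := K))
  obtain ⟨hz, hzi, hzs⟩ := S.z_spec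
  let ψ : Q → K := fun x => (ι (S.A x) : K) + (ι (S.B x) : K) * θ
  have hker : ∀ x, ψ x = 0 ↔ H.α x = x := fun x => by
    rw [S.ker]
    constructor
    · intro h
      have h1 : σ (ψ x) = 0 := by rw [h, map_zero]
      simp only [ψ, map_add, map_mul, hισ] at h h1
      have hB : (ι (S.B x) : K) = 0 := by
        linear_combination h + h1 - (ι (S.B x) : K) * hθ - (ι (S.A x) : K) * (CharTwo.two_eq_zero (R := K))
      rw [hB, zero_mul, add_zero] at h
      exact ⟨(map_eq_zero_iff ι ι.injective).mp (Subtype.ext h), (map_eq_zero_iff ι ι.injective).mp (Subtype.ext hB)⟩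
    · rintro ⟨h1, h2⟩
      simp [ψ, h1, h2]
  obtain ⟨E⟩ := ext_iso (G := Q) (H := sylU 3 hσ) (V := K) (W := fixedField σ) (fun v => CharTwo.add_self_eq_zero v)
    ψ Cfsg.Lib.SuzukiTwo.Unitary.bc (fun x => ι (H.e x ^ 2 / S.μ))
    (fun g => (Cfsg.Lib.SuzukiTwo.Unitary.coordEquiv θ hθ g).2)
    (fun x y => by simp only [ψ, S.A_mul, S.B_mul, map_add, Subfield.coe_add]; ring)
    (fun k => by
      have hb : σ (k + σ k) = k + σ k := hσ.trace_mem k
      have ha : σ (k + (k + σ k) * θ) = k + (k + σ k) * θ := by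
        rw [map_add, map_mul, hb]
        linear_combination (k + σ k) * hθ - (k + (k + σ k) * θ) * (CharTwo.two_eq_zero (R := K)) +
          (k + σ k) * (CharTwo.two_eq_zero (R := K))
      obtain ⟨x, hA, hB⟩ := S.surj (ι.symm ⟨_, mem_fixedField.mpr ha⟩) (ι.symm ⟨_, mem_fixedField.mpr hb⟩)
      refine ⟨x, ?_⟩
      simp only [ψ, hA, hB, RingEquiv.apply_symm_apply]
      linear_combination ((k + σ k) * θ) * (CharTwo.two_eq_zero (R := K)))
    Cfsg.Lib.SuzukiTwo.Unitary.bc_mul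
    (fun k => ⟨(Cfsg.Lib.SuzukiTwo.Unitary.coordEquiv θ hθ).symm (k, 0), rfl⟩)
    (fun x hx => H.central ((hker x).mp hx))
    (fun g hg h => Subgroup.mem_center_iff.mp ((Cfsg.Lib.SuzukiTwo.Unitary.center_iff g).mpr hg) h)
    (fun x y hx hy => by rw [hz x y ((hker x).mp hx) ((hker y).mp hy), map_add])
    (fun g h hg hh => Subtype.ext (by
      show Cfsg.Lib.SuzukiTwo.Unitary.cc (g * h) + θ * _ = _ + _
      simp only [Cfsg.Lib.SuzukiTwo.Unitary.coordEquiv, Equiv.coe_fn_mk]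
      rw [Cfsg.Lib.SuzukiTwo.Unitary.bc_mul, hg, hh, Cfsg.Lib.SuzukiTwo.Unitary.cc_mul, hg]
      simp))
    (fun x hx h => hzi x ((hker x).mp hx) ((map_eq_zero_iff ι ι.injective).mp h))
    (fun g hg h => Cfsg.Lib.SuzukiTwo.Unitary.ext_coord (hg.trans Cfsg.Lib.SuzukiTwo.Unitary.bc_one.symm) (by
      have h1 := congrArg Subtype.val h
      simp only [Cfsg.Lib.SuzukiTwo.Unitary.coordEquiv, Equiv.coe_fn_mk, hg, zero_mul, mul_zero, add_zero] at h1
      rw [h1, Cfsg.Lib.SuzukiTwo.Unitary.cc_one]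
      rfl))
    (fun w => by obtain ⟨x, hx, h⟩ := hzs (ι.symm w); exact ⟨x, (hker x).mpr hx, by rw [h, RingEquiv.apply_symm_apply]⟩)
    (fun w => ⟨(Cfsg.Lib.SuzukiTwo.Unitary.coordEquiv θ hθ).symm (0, w), rfl,
      by rw [Equiv.apply_symm_apply]⟩)
    (fun x g he => Subtype.ext (by
      show (ι (H.e (x * x) ^ 2 / S.μ) : K) = Cfsg.Lib.SuzukiTwo.Unitary.cc (g * g) +
        θ * (Cfsg.Lib.SuzukiTwo.Unitary.bc (g * g) * σ (Cfsg.Lib.SuzukiTwo.Unitary.bc (g * g)))
      rw [Cfsg.Lib.SuzukiTwo.Unitary.bc_mul, CharTwo.add_self_eq_zero,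
        Cfsg.Lib.SuzukiTwo.Unitary.cc_mul, CharTwo.add_self_eq_zero, ← he, S.sq_div]
      simp only [ψ, map_add, map_mul, map_pow, map_zero, hισ, Subfield.coe_add, Subfield.coe_mul]
      push_cast
      linear_combination -((ι (S.A x) : K) * (ι (S.B x) : K)) * hθ - ((ι (S.B x) : K) ^ 2) * hθn))
  exact ⟨E.trans e₀⟩

end Cfsg.Lib.PGroups.Singer
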