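import Cfsg.Agent.PGroups.Singer.Hyp

/-!
The hypotheses pass to the quotient by the fixed points; if that quotient is abelian, the squares are fixed.
-/

set_option autoImplicit false
set_option linter.style.haveILetI false
set_option linter.unusedSectionVars false

namespace Cfsg.Lib.PGroups.Singer

universe u

variable {Q : Type u} [Group Q] [Finite Q] {F : Type} [Field F] [Fintype F] [CharP F 2] (H : Hyp Q F)

namespace Hyp

/-- The fixed points. -/
def sC : Subgroup Q where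
  carrier := {x | H.α x = x}
  one_mem' := H.fix_one
  mul_mem' := H.fix_mul
  inv_mem' := H.fix_inv

theorem mem_sC {x : Q} : x ∈ H.sC ↔ H.α x = x := Iff.rfl

instance sC_normal : H.sC.Normal := ⟨fun c hc g => by rwa [H.central hc g, mul_inv_cancel_right]⟩

/-- An automorphism preserving the fixed points, on the quotient. -/
def down (β : MulAut Q) (hβ : ∀ x, H.α (β x) = β (H.α x)) : MulAut (Q ⧸ H.sC) :=
  QuotientGroup.congr H.sC H.sC β (by
    ext x
    obtain ⟨x, rfl⟩ := β.surjective x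
    constructor
    · rintro ⟨y, hy, hyx⟩
      rw [← β.injective hyx, mem_sC, hβ, (show H.α y = y from hy)]
    · intro hx
      rw [mem_sC, hβ] at hx
      exact ⟨x, β.injective hx, rfl⟩)

theorem down_mk (β : MulAut Q) (hβ : ∀ x, H.α (β x) = β (H.α x)) (x : Q) :
    H.down β hβ (x : Q ⧸ H.sC) = ((β x : Q) : Q ⧸ H.sC) := rfl

theorem down_pow (β : MulAut Q) (hβ : ∀ x, H.α (β x) = β (H.α x)) (k : ℕ) (x : Q) :
    (H.down β hβ ^ k) (x : Q ⧸ H.sC) = (((β ^ k) x : Q) : Q ⧸ H.sC) := by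
  induction k with
  | zero => rfl
  | succ k ih => rw [pow_succ', MulAut.mul_apply, ih, down_mk, pow_succ', MulAut.mul_apply]

theorem mk_fix {x : Q} : (H.down H.α fun _ => rfl) (x : Q ⧸ H.sC) = (x : Q ⧸ H.sC) ↔ x ∈ H.sD := by
  rw [down_mk, eq_comm, QuotientGroup.eq, mem_sC, mem_sD]
  rfl

/-- The value on the quotient. -/
noncomputable def eBar : Q ⧸ H.sC → F := Quotient.lift (fun x => H.e (H.δ x)) fun x y h => by
  have h1 : H.α (x⁻¹ * y) = x⁻¹ * y := (QuotientGroup.leftRel_apply.mp h : x⁻¹ * y ∈ H.sC)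
  show H.e (H.δ x) = H.e (H.δ y)
  conv_rhs => rw [← mul_inv_cancel_left x y, H.δ_mul_fix x h1]

theorem eBar_mk (x : Q) : H.eBar (x : Q ⧸ H.sC) = H.e (H.δ x) := rfl

/-- The hypotheses on the quotient. -/
noncomputable def bar (hne : ∃ x, H.α x ≠ x) : Hyp (Q ⧸ H.sC) F where
  α := H.down H.α fun _ => rfl
  ρ := H.down H.ρ H.comm
  ω := H.ω
  e := H.eBar
  two := H.two.to_quotient _
  hα v := by
    induction v using QuotientGroup.induction_on with
    | H x => rw [down_mk, down_mk, H.hα]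
  comm v := by
    induction v using QuotientGroup.induction_on with
    | H x => rw [down_mk, down_mk, down_mk, down_mk, H.comm]
  period v := by
    induction v using QuotientGroup.induction_on with
    | H x => rw [down_pow, H.period]
  gen := H.gen
  ω_ne := H.ω_ne
  e_mul v w hv hw := by
    induction v using QuotientGroup.induction_on with
    | H x =>
      induction w using QuotientGroup.induction_on with
      | H y =>
        rw [H.mk_fix, mem_sD] at hv hw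
        rw [← QuotientGroup.mk_mul, eBar_mk, eBar_mk, eBar_mk, H.δ_mul hv, H.e_mul _ _ hv hw]
  e_inj v hv he := by
    induction v using QuotientGroup.induction_on with
    | H x =>
      rw [H.mk_fix, mem_sD] at hv
      rw [eBar_mk] at he
      rw [QuotientGroup.eq_one_iff, mem_sC, ← H.δ_eq_one]
      exact H.e_inj _ hv he
  e_surj f := by
    obtain ⟨x, hx⟩ := hne
    haveI : Nontrivial (Q ⧸ H.sC) := ⟨⟨(x : Q ⧸ H.sC), 1, fun h => hx ((QuotientGroup.eq_one_iff x).mp h)⟩⟩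
    obtain ⟨z, -, hz1, hzf⟩ := exists_fixed_central (H.two.to_quotient H.sC) (H.down H.α fun _ => rfl) (fun v => by
      induction v using QuotientGroup.induction_on with
      | H x => rw [down_mk, down_mk, H.hα])
    obtain ⟨z, rfl⟩ := QuotientGroup.mk_surjective z
    rw [H.mk_fix] at hzf
    obtain ⟨y, hy, hye⟩ := H.spans {f | ∃ y ∈ H.sD, H.e (H.δ y) = f}
      ⟨1, one_mem _, by rw [H.δ_eq_one.mpr H.fix_one, H.e_one]⟩
      (by
        rintro _ ⟨y, hy, rfl⟩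
        exact ⟨H.ρ y, by rw [mem_sD, H.δ_ρ, H.fix_ρ hy], by rw [H.δ_ρ, H.e_ρ _ hy]⟩)
      ⟨z, hzf, rfl⟩
      (fun h => hz1 ((QuotientGroup.eq_one_iff z).mpr (H.δ_eq_one.mp (H.e_inj _ hzf h)))) f
    exact ⟨(y : Q ⧸ H.sC), H.mk_fix.mpr hy, by rw [eBar_mk, hye]⟩
  e_ρ v hv := by
    induction v using QuotientGroup.induction_on with
    | H x =>
      rw [H.mk_fix, mem_sD] at hv
      rw [down_mk, eBar_mk, eBar_mk, H.δ_ρ, H.e_ρ _ hv]

theorem card_quot : Nat.card (Q ⧸ H.sC) < Nat.card Q := by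
  obtain ⟨c, hc, hce⟩ := H.e_surj 1
  have h1 : 1 < Nat.card H.sC := Finite.one_lt_card_iff_nontrivial.mpr
    ⟨⟨⟨c, hc⟩, 1, fun h => one_ne_zero (α := F) (by
      rw [← hce, show c = 1 from congrArg Subtype.val h, H.e_one])⟩⟩
  calc Nat.card (Q ⧸ H.sC) = Nat.card (Q ⧸ H.sC) * 1 := (mul_one _).symm
    _ < Nat.card (Q ⧸ H.sC) * Nat.card H.sC := Nat.mul_lt_mul_of_pos_left h1 Nat.card_pos
    _ = Nat.card Q := (Subgroup.card_eq_card_quotient_mul_card_subgroup _).symm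

theorem e_pow_fix {x : Q} (hx : H.α x = x) (k : ℕ) : H.α (x ^ k) = x ^ k := by rw [map_pow, hx]

/-- An abelian quotient of a nonabelian group forces the squares to be fixed. -/
theorem sq_fixed (hna : ∃ x y : Q, x * y ≠ y * x) (hcom : ∀ v w : Q ⧸ H.sC, v * w = w * v) (x : Q) :
    H.α (x * x) = x * x := by
  classical
  by_contra hx
  have hne : ∃ x, H.α x ≠ x := ⟨_, hx⟩
  let H' := H.bar hne
  haveI : Fact (Nat.Prime 2) := ⟨Nat.prime_two⟩
  letI : CommGroup (Q ⧸ H.sC) := { (inferInstance : Group (Q ⧸ H.sC)) with mul_comm := hcom }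
  have hcen : ∀ K : Subgroup (Q ⧸ H.sC), K ≤ Subgroup.center (Q ⧸ H.sC) := fun K v _ =>
    Subgroup.mem_center_iff.mpr fun g => hcom g v
  let sq : (Q ⧸ H.sC) →* (Q ⧸ H.sC) := MonoidHom.mk' (fun v => v * v) fun v w => mul_mul_mul_comm v w v w
  let Δ : (Q ⧸ H.sC) →* (Q ⧸ H.sC) := MonoidHom.mk' (fun v => v⁻¹ * H'.α v) fun v w => by
    rw [map_mul, mul_inv_rev, mul_comm w⁻¹, mul_mul_mul_comm]
  have hΔker : ∀ v, v ∈ Δ.ker ↔ H'.α v = v := fun v => by
    rw [MonoidHom.mem_ker]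
    show v⁻¹ * H'.α v = 1 ↔ _
    rw [inv_mul_eq_one, eq_comm]
  have hq : Nat.card Δ.ker = Fintype.card F := by
    rw [← Nat.card_eq_fintype_card]
    refine Nat.card_eq_of_bijective (fun v : Δ.ker => H'.e v) ⟨fun v w h => ?_, fun f => ?_⟩
    · exact Subtype.ext (H'.e_eq ((hΔker _).mp v.2) ((hΔker _).mp w.2) h)
    · obtain ⟨v, hv, he⟩ := H'.e_surj f
      exact ⟨⟨v, (hΔker v).mpr hv⟩, he⟩
  -- the squares contain every fixed point
  obtain ⟨z, hz, hz1, hzf⟩ := exists_fixed_mem H'.two H'.α H'.hα sq.range (hcen _)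
    (by rintro _ ⟨v, rfl⟩; exact ⟨H'.α v, (map_mul H'.α v v).symm⟩)
    (x := ((x * x : Q) : Q ⧸ H.sC)) ⟨(x : Q ⧸ H.sC), rfl⟩ (fun h => hx ((QuotientGroup.eq_one_iff _).mp h))
  have hDS : ∀ v, H'.α v = v → v ∈ sq.range := fun v hv =>
    H'.fix_subset (sq.range : Set (Q ⧸ H.sC))
      (by rintro _ ⟨w, rfl⟩; exact ⟨H'.ρ w, (map_mul H'.ρ w w).symm⟩) (one_mem _) hz hzf hz1 hv
  have hΔS : Δ.range ≤ sq.range := by
    rintro _ ⟨v, rfl⟩
    have h1 : v * H'.α v ∈ sq.range := hDS _ (by rw [map_mul, H'.hα, mul_comm])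
    have e : Δ v = (sq v)⁻¹ * (v * H'.α v) := by
      show v⁻¹ * H'.α v = (v * v)⁻¹ * (v * H'.α v)
      group
    rw [e]
    exact mul_mem (inv_mem ⟨v, rfl⟩) h1
  have hΩ : Δ.ker ≤ sq.ker := fun v hv => H'.sq_fix ((hΔker v).mp hv)
  have c1 : Nat.card Δ.ker * Nat.card Δ.range = Nat.card (Q ⧸ H.sC) := by
    rw [← Subgroup.index_ker, Subgroup.card_mul_index]
  have c2 : Nat.card sq.ker * Nat.card sq.range = Nat.card (Q ⧸ H.sC) := by
    rw [← Subgroup.index_ker, Subgroup.card_mul_index]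
  have hle : Nat.card sq.ker ≤ Nat.card Δ.ker := by
    refine Nat.le_of_mul_le_mul_right ?_ (Nat.card_pos (α := sq.range))
    rw [c2, ← c1]
    exact Nat.mul_le_mul le_rfl (Subgroup.card_le_of_le hΔS)
  have hΩeq : Δ.ker = sq.ker := Subgroup.eq_of_le_of_card_ge hΩ hle
  -- the last nontrivial power map
  obtain ⟨m, ⟨w, hw⟩, hm⟩ : ∃ m : ℕ, (∃ w : Q ⧸ H.sC, w ^ 2 ^ m ≠ 1) ∧ ∀ w : Q ⧸ H.sC, w ^ 2 ^ (m + 1) = 1 := by
    obtain ⟨k, hk⟩ := H'.two.exists_card_eq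
    have hex : ∃ k : ℕ, ∀ w : Q ⧸ H.sC, w ^ 2 ^ k = 1 := ⟨k, fun w => by rw [← hk, pow_card_eq_one']⟩
    obtain ⟨m, hm⟩ : ∃ m, Nat.find hex = m + 1 := by
      refine Nat.exists_eq_succ_of_ne_zero fun h0 => hz1 ?_
      have := Nat.find_spec hex z
      simpa [h0] using this
    refine ⟨m, ?_, hm ▸ Nat.find_spec hex⟩
    have := Nat.find_min hex (show m < Nat.find hex by omega)
    push Not at this
    exact this
  have hfix : ∀ v, H'.α (v ^ 2 ^ m) = v ^ 2 ^ m := fun v => by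
    rw [← hΔker, hΩeq, MonoidHom.mem_ker]
    show v ^ 2 ^ m * v ^ 2 ^ m = 1
    rw [← pow_add, ← two_mul, ← pow_succ', hm]
  let a : (Q ⧸ H.sC) → F := fun v => H'.e (v ^ 2 ^ m)
  have ha : ∀ v w, a (v * w) = a v + a w := fun v w => by
    show H'.e ((v * w) ^ 2 ^ m) = _
    rw [mul_pow, H'.e_mul _ _ (hfix v) (hfix w)]
  have haρ : ∀ v, a (H'.ρ v) = H.ω * a v := fun v => by
    show H'.e (H'.ρ v ^ 2 ^ m) = _
    rw [← map_pow, H'.e_ρ _ (hfix v)]
    rfl
  have has : ∀ f, ∃ v, a v = f := fun f => by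
    refine H'.spans {f | ∃ v, a v = f} ⟨1, ?_⟩ (by rintro _ ⟨v, rfl⟩; exact ⟨H'.ρ v, haρ v⟩) ⟨w, rfl⟩
      (fun h => hw (H'.e_inj _ (hfix w) h)) f
    show H'.e ((1 : Q ⧸ H.sC) ^ 2 ^ m) = 0
    rw [one_pow, H'.e_one]
  let ψ : (Q ⧸ H.sC) →* (Q ⧸ H.sC) := powMonoidHom (2 ^ m)
  have hψker : ∀ v, a v = 0 → v ∈ sq.range := by
    have hS : sq.range ≤ ψ.ker := by
      rintro _ ⟨v, rfl⟩
      show (v * v) ^ 2 ^ m = 1
      rw [← pow_two, ← pow_mul, ← pow_succ', hm]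
    have hψr : ψ.range = Δ.ker := le_antisymm (by rintro _ ⟨v, rfl⟩; exact (hΔker _).mpr (hfix v)) fun v hv => by
      obtain ⟨u, hu⟩ := has (H'.e v)
      exact ⟨u, H'.e_eq (hfix u) ((hΔker v).mp hv) hu⟩
    have c3 : Nat.card ψ.ker * Nat.card ψ.range = Nat.card (Q ⧸ H.sC) := by
      rw [← Subgroup.index_ker, Subgroup.card_mul_index]
    have heq : sq.range = ψ.ker := Subgroup.eq_of_le_of_card_ge hS (by
      refine Nat.le_of_mul_le_mul_right ?_ (Nat.card_pos (α := ψ.range))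
      rw [c3, ← c2, hψr, hΩeq, mul_comm])
    intro v hv
    rw [heq]
    exact H'.e_inj _ (hfix v) hv
  obtain ⟨p, r, hpr⟩ := hna
  have hκ : ∀ u v : Q, H.α (κ u v) = κ u v := fun u v => by
    rw [← H.mem_sC, ← QuotientGroup.eq_one_iff, show ((κ u v : Q) : Q ⧸ H.sC) = κ (u : Q ⧸ H.sC) (v : Q ⧸ H.sC) from
      κ_map (QuotientGroup.mk' H.sC) u v, κ_eq_one]
    exact hcom _ _
  refine hpr (H.comm_trivial ⊤ (fun _ _ => Subgroup.mem_top _) (fun y => a (y : Q ⧸ H.sC))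
    (fun u _ v _ => by rw [QuotientGroup.mk_mul, ha]) (fun u _ => haρ (u : Q ⧸ H.sC)) (fun f => ?_) (fun u _ v _ => hκ u v)
    (fun d _ hd y _ => ?_) p (Subgroup.mem_top _) r (Subgroup.mem_top _))
  · obtain ⟨v, hv⟩ := has f
    obtain ⟨v, rfl⟩ := QuotientGroup.mk_surjective v
    exact ⟨v, Subgroup.mem_top _, hv⟩
  · obtain ⟨u, hu⟩ := hψker _ hd
    obtain ⟨u, rfl⟩ := QuotientGroup.mk_surjective u
    have hc : H.α ((u * u)⁻¹ * d) = (u * u)⁻¹ * d := QuotientGroup.eq.mp hu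
    rw [← mul_inv_cancel_left (u * u) d, (H.e_κ_left (hκ _ _) (hκ _ _)).2, (H.e_κ_left (hκ _ _) (hκ _ _)).2,
      (H.e_κ_fix hc y).1, H.e_one, CharTwo.add_self_eq_zero, zero_add]

end Hyp

end Cfsg.Lib.PGroups.Singer
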