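import Cfsg.Agent.PGroups.Singer.Quot

/-!
Coordinates on a nonabelian group whose squares are fixed, and the impossibility of a longer series.
-/

set_option autoImplicit false
set_option linter.style.haveILetI false
set_option linter.unusedSectionVars false

namespace Cfsg.Lib.PGroups.Singer

universe u

variable {Q : Type u} [Group Q] [Finite Q] {F : Type} [Field F] [Fintype F] [CharP F 2]

/-- Coordinates: `Q/C` is `F²` and the squaring map is a quadratic form up to a field automorphism. -/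
structure Shape (H : Hyp Q F) where
  A : Q → F
  B : Q → F
  μ : F
  m : F
  μ_ne : μ ≠ 0
  A_mul : ∀ x y, A (x * y) = A x + A y
  B_mul : ∀ x y, B (x * y) = B x + B y
  ker : ∀ x, H.α x = x ↔ A x = 0 ∧ B x = 0
  surj : ∀ a b, ∃ x, A x = a ∧ B x = b
  A_ρ : ∀ x, A (H.ρ x) = H.ω * A x
  B_ρ : ∀ x, B (H.ρ x) = H.ω * B x
  A_α : ∀ x, A (H.α x) = A x + B x
  B_α : ∀ x, B (H.α x) = B x
  A_D : ∀ x, H.α (H.δ x) = H.δ x → A x = H.e (H.δ x)
  sq_fix : ∀ x, H.α (x * x) = x * x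
  sq : ∀ x, H.e (x * x) ^ 2 = μ * (A x ^ 2 + A x * B x + m * B x ^ 2)

namespace Shape

variable {H : Hyp Q F} (S : Shape H)
include S

theorem κ_fix (x y : Q) : H.α (κ x y) = κ x y := by
  rw [κ_squares]
  exact H.fix_mul (H.fix_mul (H.fix_inv (S.sq_fix x)) (S.sq_fix _)) (S.sq_fix y)

theorem κ_sq (x y : Q) : H.e (κ x y) ^ 2 = S.μ * (S.A x * S.B y + S.B x * S.A y) := by
  have hA : S.A y⁻¹ = S.A y := by
    have h := S.A_mul y⁻¹ y
    rw [inv_mul_cancel, ((S.ker 1).mp H.fix_one).1] at h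
    exact CharTwo.add_eq_zero.mp h.symm
  have hB : S.B y⁻¹ = S.B y := by
    have h := S.B_mul y⁻¹ y
    rw [inv_mul_cancel, ((S.ker 1).mp H.fix_one).2] at h
    exact CharTwo.add_eq_zero.mp h.symm
  rw [κ_squares, H.e_mul _ _ (H.fix_mul (H.fix_inv (S.sq_fix x)) (S.sq_fix _)) (S.sq_fix y),
    H.e_mul _ _ (H.fix_inv (S.sq_fix x)) (S.sq_fix _), H.e_inv (S.sq_fix x), CharTwo.add_sq, CharTwo.add_sq,
    S.sq, S.sq, S.sq, S.A_mul, S.B_mul, hA, hB]
  linear_combination (S.μ * (S.A x ^ 2 + S.A x * S.B x + S.m * S.B x ^ 2 + S.A y ^ 2 + S.A y * S.B y +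
    S.m * S.B y ^ 2 + S.A x * S.A y + S.m * S.B x * S.B y)) * (CharTwo.two_eq_zero (R := F))

end Shape

namespace Hyp

variable (H : Hyp Q F)

/-- An additive extension of the value on the fixed points of an elementary abelian quotient. -/
theorem exists_extension (hsq : ∀ x, H.α (x * x) = x * x) (hκ : ∀ x y : Q, H.α (κ x y) = κ x y) :
    ∃ a : Q → F, (∀ x y, a (x * y) = a x + a y) ∧ ∀ x ∈ H.sD, a x = H.e (H.δ x) := by
  haveI : Fact (Nat.Prime 2) := ⟨Nat.prime_two⟩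
  letI : CommGroup (Q ⧸ H.sC) := { (inferInstance : Group (Q ⧸ H.sC)) with
    mul_comm := fun v w => by
      induction v using QuotientGroup.induction_on with
      | H x =>
        induction w using QuotientGroup.induction_on with
        | H y =>
          rw [← κ_eq_one, show κ (x : Q ⧸ H.sC) (y : Q ⧸ H.sC) = ((κ x y : Q) : Q ⧸ H.sC) from
            (κ_map (QuotientGroup.mk' H.sC) x y).symm, QuotientGroup.eq_one_iff]
          exact hκ x y }
  letI : Module (ZMod 2) (Additive (Q ⧸ H.sC)) := AddCommGroup.zmodModule (n := 2) fun v => by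
    rw [two_nsmul]
    obtain ⟨x, hx⟩ := QuotientGroup.mk_surjective v.toMul
    show v.toMul * v.toMul = 1
    rw [← hx, ← QuotientGroup.mk_mul, QuotientGroup.eq_one_iff]
    exact hsq x
  letI : Module (ZMod 2) F := (ZMod.algebra F 2).toModule
  let P : AddSubgroup (Additive (Q ⧸ H.sC)) := Subgroup.toAddSubgroup (H.sD.map (QuotientGroup.mk' H.sC))
  let f : AddSubgroup.toZModSubmodule 2 P →+ F :=
    AddMonoidHom.mk' (fun v => H.eBar (v : Additive (Q ⧸ H.sC)).toMul) fun v w => by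
      obtain ⟨x, hx, hxe⟩ := v.2
      obtain ⟨y, hy, hye⟩ := w.2
      show H.eBar ((v : Additive (Q ⧸ H.sC)).toMul * (w : Additive (Q ⧸ H.sC)).toMul) = _
      have hxe' : (x : Q ⧸ H.sC) = (v : Additive (Q ⧸ H.sC)).toMul := hxe
      have hye' : (y : Q ⧸ H.sC) = (w : Additive (Q ⧸ H.sC)).toMul := hye
      rw [← hxe', ← hye', ← QuotientGroup.mk_mul, eBar_mk, eBar_mk, eBar_mk, H.δ_mul hx, H.e_mul _ _ hx hy]
  obtain ⟨g, hg⟩ := LinearMap.exists_extend (f.toZModLinearMap 2)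
  refine ⟨fun x => g (Additive.ofMul (x : Q ⧸ H.sC)), fun x y => ?_, fun x hx => ?_⟩
  · show g (Additive.ofMul ((x * y : Q) : Q ⧸ H.sC)) = _
    rw [← map_add, QuotientGroup.mk_mul, ofMul_mul]
  · exact LinearMap.congr_fun hg ⟨Additive.ofMul (x : Q ⧸ H.sC), ⟨x, hx, rfl⟩⟩

/-- Coordinates exist when the squares are fixed. -/
theorem shape_of_sq (hna : ∃ x y : Q, x * y ≠ y * x) (hsq : ∀ x, H.α (x * x) = x * x) : Nonempty (Shape H) := by
  classical
  have hκ : ∀ x y : Q, H.α (κ x y) = κ x y := fun x y => by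
    rw [κ_squares]
    exact H.fix_mul (H.fix_mul (H.fix_inv (hsq x)) (hsq _)) (hsq y)
  have hδD : ∀ x, H.δ x ∈ H.sD := fun x => by
    rw [mem_sD, H.δ_δ]
    exact H.fix_inv (hsq _)
  have hfixδ : ∀ x, H.α (H.δ (H.δ x)) = H.δ (H.δ x) := hδD
  let B : Q → F := fun x => H.e (H.δ (H.δ x))
  have hδB : ∀ x y, H.δ (H.δ (x * y)) = H.δ (H.δ x) * H.δ (H.δ y) := by
    intro x y
    have e : H.δ (x * y) = H.δ x * κ (H.δ x) y * H.δ y := by simp [δ, κ, mul_assoc]
    rw [e, mul_assoc, H.δ_mul (hfixδ x),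
      show κ (H.δ x) y * H.δ y = H.δ y * κ (H.δ x) y from (H.central (hκ _ _) _).symm, H.δ_mul_fix _ (hκ _ _)]
  have B_mul : ∀ x y, B (x * y) = B x + B y := fun x y => by
    show H.e _ = _
    rw [hδB, H.e_mul _ _ (hfixδ x) (hfixδ y)]
  have B_ρ : ∀ x, B (H.ρ x) = H.ω * B x := fun x => by
    show H.e _ = _
    rw [H.δ_ρ, H.δ_ρ, H.e_ρ _ (hfixδ x)]
  have hBD : ∀ x, B x = 0 ↔ x ∈ H.sD := fun x => by
    rw [mem_sD, ← H.δ_eq_one]
    exact ⟨fun h => H.e_inj _ (hfixδ x) h, fun h => by show H.e _ = _; rw [h, H.e_one]⟩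
  have hDρ : ∀ x ∈ H.sD, H.ρ x ∈ H.sD := fun x hx => by rw [mem_sD, H.δ_ρ, H.fix_ρ hx]
  have hne : ∃ x, H.α x ≠ x := by
    obtain ⟨x, y, hxy⟩ := hna
    exact ⟨x, fun h => hxy (H.central h y).symm⟩
  have aD_surj : ∀ f, ∃ x ∈ H.sD, H.e (H.δ x) = f := fun f => by
    obtain ⟨v, hv, he⟩ := (H.bar hne).e_surj f
    obtain ⟨x, rfl⟩ := QuotientGroup.mk_surjective v
    exact ⟨x, H.mk_fix.mp hv, he⟩
  have hDcomm : ∀ x ∈ H.sD, ∀ y ∈ H.sD, x * y = y * x :=
    H.comm_trivial H.sD hDρ (fun x => H.e (H.δ x)) (fun x hx y hy => by rw [H.δ_mul hx, H.e_mul _ _ hx hy])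
      (fun x hx => by rw [H.δ_ρ, H.e_ρ _ hx]) aD_surj (fun x _ y _ => hκ x y)
      (fun d hd h y _ => by rw [(H.e_κ_fix (H.δ_eq_one.mp (H.e_inj _ hd h)) y).1, H.e_one])
  have B_surj : ∀ b, ∃ x, B x = b := by
    obtain ⟨x₀, hx₀⟩ : ∃ x, B x ≠ 0 := by
      by_contra! h
      obtain ⟨x, y, hxy⟩ := hna
      exact hxy (hDcomm x ((hBD x).mp (h x)) y ((hBD y).mp (h y)))
    exact fun b => H.spans {f | ∃ x, B x = f} ⟨1, (hBD 1).mpr (one_mem _)⟩
      (by rintro _ ⟨x, rfl⟩; exact ⟨H.ρ x, B_ρ x⟩) ⟨x₀, rfl⟩ hx₀ b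
  -- the averaged extension
  obtain ⟨a', ha', ha'D⟩ := H.exists_extension hsq hκ
  set N := Fintype.card F - 1 with hN
  let A : Q → F := fun x => ∑ k ∈ Finset.range N, (H.ω ^ k)⁻¹ * a' ((H.ρ ^ k) x)
  have A_mul : ∀ x y, A (x * y) = A x + A y := fun x y => by
    simp only [A, map_mul, ha', mul_add, Finset.sum_add_distrib]
  have A_ρ : ∀ x, A (H.ρ x) = H.ω * A x := fun x => by
    let g : ℕ → F := fun k => H.ω * ((H.ω ^ k)⁻¹ * a' ((H.ρ ^ k) x))
    have e : ∀ k, (H.ω ^ k)⁻¹ * a' ((H.ρ ^ k) (H.ρ x)) = g (k + 1) := fun k => by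
      simp only [g]
      rw [← MulAut.mul_apply, ← pow_succ, pow_succ' H.ω, mul_inv, ← mul_assoc, ← mul_assoc, mul_inv_cancel₀ H.ω_ne,
        one_mul]
    show ∑ k ∈ Finset.range N, (H.ω ^ k)⁻¹ * a' ((H.ρ ^ k) (H.ρ x)) =
      H.ω * ∑ k ∈ Finset.range N, (H.ω ^ k)⁻¹ * a' ((H.ρ ^ k) x)
    rw [Finset.mul_sum, Finset.sum_congr rfl fun k _ => e k]
    show ∑ k ∈ Finset.range N, g (k + 1) = ∑ k ∈ Finset.range N, g k
    have e1 := Finset.sum_range_succ g N
    have e2 := Finset.sum_range_succ' g N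
    have e3 : g N = g 0 := by
      simp only [g, hN, H.period, H.ω_pow, pow_zero, MulAut.one_apply]
    rw [e1, e3] at e2
    exact (add_right_cancel e2).symm
  have A_D : ∀ x, H.α (H.δ x) = H.δ x → A x = H.e (H.δ x) := fun x hx => by
    have hk : ∀ k : ℕ, (H.ω ^ k)⁻¹ * a' ((H.ρ ^ k) x) = H.e (H.δ x) := fun k => by
      have hρ : ∀ k : ℕ, H.δ ((H.ρ ^ k) x) = (H.ρ ^ k) (H.δ x) := fun k => by
        induction k with
        | zero => rfl
        | succ k ih => rw [pow_succ', MulAut.mul_apply, H.δ_ρ, ih, MulAut.mul_apply]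
      rw [ha'D _ (by rw [mem_sD, hρ, (H.e_ρ_pow hx k).1]), hρ, (H.e_ρ_pow hx k).2,
        inv_mul_cancel_left₀ (pow_ne_zero _ H.ω_ne)]
    show ∑ k ∈ Finset.range N, (H.ω ^ k)⁻¹ * a' ((H.ρ ^ k) x) = _
    rw [Finset.sum_congr rfl fun k _ => hk k, Finset.sum_const, Finset.card_range, nsmul_eq_mul]
    have h1 : (N : F) + 1 = 0 := by
      rw [hN, ← Nat.cast_add_one, Nat.sub_add_cancel Fintype.card_pos, FiniteField.cast_card_eq_zero]
    rw [CharTwo.add_eq_zero.mp h1, one_mul]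
  have A_α : ∀ x, A (H.α x) = A x + B x := fun x => by
    rw [H.α_eq, A_mul, A_D _ (hfixδ x)]
  have B_α : ∀ x, B (H.α x) = B x := fun x => by
    rw [H.α_eq, B_mul, show B (H.δ x) = 0 from (hBD _).mpr (hδD x), add_zero]
  have A_one : A 1 = 0 := by
    have := A_mul 1 1
    rw [mul_one, left_eq_add] at this
    exact this
  have B_one : B 1 = 0 := (hBD 1).mpr (one_mem _)
  have ker : ∀ x, H.α x = x ↔ A x = 0 ∧ B x = 0 := fun x => by
    constructor
    · intro h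
      have h1 : H.δ x = 1 := H.δ_eq_one.mpr h
      have hx : x ∈ H.sD := by rw [mem_sD, h1, H.fix_one]
      exact ⟨by rw [A_D x hx, h1, H.e_one], (hBD x).mpr hx⟩
    · rintro ⟨h1, h2⟩
      have hx := (hBD x).mp h2
      rw [A_D x hx] at h1
      exact H.δ_eq_one.mp (H.e_inj _ hx h1)
  have surj : ∀ a b, ∃ x, A x = a ∧ B x = b := fun a b => by
    obtain ⟨x, hx⟩ := B_surj b
    obtain ⟨d, hd, hda⟩ := aD_surj (a + A x)
    refine ⟨x * d, ?_, by rw [B_mul, (hBD d).mpr hd, add_zero, hx]⟩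
    rw [A_mul, A_D d hd, hda, add_comm, add_assoc, CharTwo.add_self_eq_zero, add_zero]
  -- the squaring map
  let q : Q → F := fun x => H.e (x * x)
  have q_mul : ∀ x y, q (x * y) = q x + q y + H.e (κ x y) := fun x y => by
    have hyy := hsq y
    have e1 : κ x y⁻¹ = (κ x y)⁻¹ := by
      refine H.e_eq (hκ x y⁻¹) (H.fix_inv (hκ x y)) ?_
      have h := (H.e_κ_right (hκ x y⁻¹) (hκ x y)).2
      rw [inv_mul_cancel, (H.e_κ_fix H.fix_one x).2, H.e_one] at h
      rw [H.e_inv (hκ x y)]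
      exact CharTwo.add_eq_zero.mp h.symm
    have e2 : x * y * (x * y) = x * x * κ x y⁻¹ * (y * y) := by simp only [κ]; group
    show H.e (x * y * (x * y)) = H.e (x * x) + H.e (y * y) + _
    rw [e2, e1, H.e_mul _ _ (H.fix_mul (hsq x) (H.fix_inv (hκ x y))) hyy,
      H.e_mul _ _ (hsq x) (H.fix_inv (hκ x y)), H.e_inv (hκ x y)]
    ring
  have q_ρ : ∀ x, q (H.ρ x) = H.ω * q x := fun x => by
    show H.e _ = _
    rw [← map_mul, H.e_ρ _ (hsq x)]
  have hAB_fix : ∀ x y, A x = A y → B x = B y → H.α (y⁻¹ * x) = y⁻¹ * x := fun x y h1 h2 => by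
    rw [ker]
    constructor
    · have := A_mul y (y⁻¹ * x)
      rw [mul_inv_cancel_left, h1, left_eq_add] at this
      exact this
    · have := B_mul y (y⁻¹ * x)
      rw [mul_inv_cancel_left, h2, left_eq_add] at this
      exact this
  have q_congr : ∀ x y, A x = A y → B x = B y → q x = q y := fun x y h1 h2 => by
    have hc := hAB_fix x y h1 h2
    rw [← mul_inv_cancel_left y x, q_mul, (H.e_κ_fix hc y).2, H.e_one, add_zero]
    show _ + H.e _ = _
    rw [H.sq_fix hc, H.e_one, add_zero]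
  have κ_congr : ∀ x x' y, A x = A x' → B x = B x' → H.e (κ x y) = H.e (κ x' y) := fun x x' y h1 h2 => by
    have hc := hAB_fix x x' h1 h2
    rw [← mul_inv_cancel_left x' x, (H.e_κ_left (hκ _ _) (hκ _ _)).2, (H.e_κ_fix hc y).1, H.e_one, add_zero]
  have κ_congr' : ∀ x y y', A y = A y' → B y = B y' → H.e (κ x y) = H.e (κ x y') := fun x y y' h1 h2 => by
    have hc := hAB_fix y y' h1 h2
    rw [← mul_inv_cancel_left y' y, (H.e_κ_right (hκ _ _) (hκ _ _)).2, (H.e_κ_fix hc x).2, H.e_one, add_zero]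
  let E : Subgroup Q :=
    { carrier := {x | A x = 0}
      one_mem' := A_one
      mul_mem' := fun {x y} (hx : A x = 0) (hy : A y = 0) => by
        show A (x * y) = 0
        rw [A_mul, hx, hy, add_zero]
      inv_mem' := fun {x} (hx : A x = 0) => by
        show A x⁻¹ = 0
        have := A_mul x⁻¹ x
        rw [inv_mul_cancel, A_one, hx, add_zero] at this
        exact this.symm }
  have hEcomm : ∀ x ∈ E, ∀ y ∈ E, x * y = y * x :=
    H.comm_trivial E (fun x (hx : A x = 0) => show A (H.ρ x) = 0 by rw [A_ρ, hx, mul_zero]) B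
      (fun x _ y _ => B_mul x y) (fun x _ => B_ρ x)
      (fun b => by obtain ⟨x, h1, h2⟩ := surj 0 b; exact ⟨x, h1, h2⟩) (fun x _ y _ => hκ x y)
      (fun d hd hd' y _ => by rw [(H.e_κ_fix ((ker d).mpr ⟨hd, hd'⟩) y).1, H.e_one])
  choose sa hsaA hsaB using fun a => surj a 0
  choose sb hsbA hsbB using fun b => surj 0 b
  have hk : ∀ a, q (sa a) = q (sa 1) * a := by
    refine linear_of_equivariant H.gen (fun a => q (sa a)) (fun a a' => ?_) fun a => ?_
    · rw [q_congr (sa (a + a')) (sa a * sa a') (by rw [A_mul, hsaA, hsaA, hsaA])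
        (by rw [B_mul, hsaB, hsaB, hsaB, add_zero]), q_mul,
        κ_eq_one.mpr (hDcomm _ ((hBD _).mp (hsaB a)) _ ((hBD _).mp (hsaB a'))), H.e_one, add_zero]
    · rw [q_congr (sa (H.ω * a)) (H.ρ (sa a)) (by rw [A_ρ, hsaA, hsaA]) (by rw [B_ρ, hsaB, hsaB, mul_zero]), q_ρ]
  have hl : ∀ b, q (sb b) = q (sb 1) * b := by
    refine linear_of_equivariant H.gen (fun b => q (sb b)) (fun b b' => ?_) fun b => ?_
    · rw [q_congr (sb (b + b')) (sb b * sb b') (by rw [A_mul, hsbA, hsbA, hsbA, add_zero])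
        (by rw [B_mul, hsbB, hsbB, hsbB]), q_mul,
        κ_eq_one.mpr (hEcomm _ (hsbA b) _ (hsbA b')), H.e_one, add_zero]
    · rw [q_congr (sb (H.ω * b)) (H.ρ (sb b)) (by rw [A_ρ, hsbA, hsbA, mul_zero]) (by rw [B_ρ, hsbB, hsbB]), q_ρ]
  obtain ⟨c, hc⟩ := pair_sq H.gen (fun a b => H.e (κ (sa a) (sb b)))
    (fun a a' b => by
      rw [κ_congr (sa (a + a')) (sa a * sa a') (sb b) (by rw [A_mul, hsaA, hsaA, hsaA])
        (by rw [B_mul, hsaB, hsaB, hsaB, add_zero])]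
      exact (H.e_κ_left (hκ _ _) (hκ _ _)).2)
    (fun a b b' => by
      rw [κ_congr' (sa a) (sb (b + b')) (sb b * sb b') (by rw [A_mul, hsbA, hsbA, hsbA, add_zero])
        (by rw [B_mul, hsbB, hsbB, hsbB])]
      exact (H.e_κ_right (hκ _ _) (hκ _ _)).2)
    (fun a b => by
      rw [κ_congr (sa (H.ω * a)) (H.ρ (sa a)) (sb (H.ω * b)) (by rw [A_ρ, hsaA, hsaA])
          (by rw [B_ρ, hsaB, hsaB, mul_zero]),
        κ_congr' (H.ρ (sa a)) (sb (H.ω * b)) (H.ρ (sb b)) (by rw [A_ρ, hsbA, hsbA, mul_zero])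
          (by rw [B_ρ, hsbB, hsbB]),
        ← κ_map, H.e_ρ _ (hκ _ _)])
  set k := q (sa 1) with hkdef
  set l := q (sb 1) with hldef
  have hqform : ∀ x, q x = k * A x + l * B x + H.e (κ (sa (A x)) (sb (B x))) := fun x => by
    rw [q_congr x (sa (A x) * sb (B x)) (by rw [A_mul, hsaA, hsbA, add_zero]) (by rw [B_mul, hsaB, hsbB, zero_add]),
      q_mul, hk, hl]
  have hq2 : ∀ x, q x ^ 2 = k ^ 2 * A x ^ 2 + l ^ 2 * B x ^ 2 + c * (A x * B x) := fun x => by
    rw [hqform, CharTwo.add_sq, CharTwo.add_sq, mul_pow, mul_pow, hc]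
  have hck : c = k ^ 2 := by
    have h : q (H.α (sb 1)) = q (sb 1) := by
      show H.e _ = _
      rw [← map_mul, hsq]
    have h1 := hq2 (H.α (sb 1))
    rw [h, A_α, B_α, hsbA, hsbB, hq2, hsbA, hsbB] at h1
    linear_combination -h1 - k ^ 2 * (CharTwo.two_eq_zero (R := F))
  have hk0 : k ≠ 0 := by
    intro h0
    have hql : ∀ x, q x = l * B x := fun x => by
      have h1 : (q x + l * B x) ^ 2 = 0 := by
        rw [CharTwo.add_sq, hq2, hck, h0]
        linear_combination (l ^ 2 * B x ^ 2) * (CharTwo.two_eq_zero (R := F))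
      exact CharTwo.add_eq_zero.mp (sq_eq_zero_iff.mp h1)
    obtain ⟨x, y, hxy⟩ := hna
    refine hxy (κ_eq_one.mp (H.e_inj _ (hκ x y) ?_))
    have h2 := q_mul x y
    rw [hql, hql, hql, B_mul] at h2
    linear_combination -h2
  exact ⟨{
    A := A, B := B, μ := k ^ 2, m := l ^ 2 / k ^ 2, μ_ne := pow_ne_zero _ hk0, A_mul := A_mul, B_mul := B_mul,
    ker := ker, surj := surj, A_ρ := A_ρ, B_ρ := B_ρ, A_α := A_α, B_α := B_α, A_D := A_D, sq_fix := hsq,
    sq := fun x => by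
      show q x ^ 2 = _
      rw [hq2, hck]
      field_simp
      ring }⟩

/-- A longer series is impossible. -/
theorem no_longer (h4 : 4 ≤ Fintype.card F) (hne : ∃ x, H.α x ≠ x) (S : Shape (H.bar hne)) : False := by
  classical
  let A : Q → F := fun x => S.A (x : Q ⧸ H.sC)
  let B : Q → F := fun x => S.B (x : Q ⧸ H.sC)
  have A_mul : ∀ x y, A (x * y) = A x + A y := fun x y => S.A_mul (x : Q ⧸ H.sC) (y : Q ⧸ H.sC)
  have B_mul : ∀ x y, B (x * y) = B x + B y := fun x y => S.B_mul (x : Q ⧸ H.sC) (y : Q ⧸ H.sC)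
  have A_ρ : ∀ x, A (H.ρ x) = H.ω * A x := fun x => S.A_ρ (x : Q ⧸ H.sC)
  have B_ρ : ∀ x, B (H.ρ x) = H.ω * B x := fun x => S.B_ρ (x : Q ⧸ H.sC)
  have A_α : ∀ x, A (H.α x) = A x + B x := fun x => S.A_α (x : Q ⧸ H.sC)
  have B_α : ∀ x, B (H.α x) = B x := fun x => S.B_α (x : Q ⧸ H.sC)
  have surj : ∀ a b, ∃ x, A x = a ∧ B x = b := fun a b => by
    obtain ⟨v, hv⟩ := S.surj a b
    obtain ⟨x, rfl⟩ := QuotientGroup.mk_surjective v
    exact ⟨x, hv⟩
  have hD : ∀ x, x ∈ H.sD ↔ A x = 0 ∧ B x = 0 := fun x => H.mk_fix.symm.trans (S.ker (x : Q ⧸ H.sC))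
  have hsqD : ∀ x, x * x ∈ H.sD := fun x => H.mk_fix.mp (S.sq_fix (x : Q ⧸ H.sC))
  have hsq : ∀ x, H.e (H.δ (x * x)) ^ 2 = S.μ * (A x ^ 2 + A x * B x + S.m * B x ^ 2) := fun x =>
    S.sq (x : Q ⧸ H.sC)
  have hκD : ∀ x y : Q, κ x y ∈ H.sD := fun x y => H.mk_fix.mp (by
    rw [show ((κ x y : Q) : Q ⧸ H.sC) = κ (x : Q ⧸ H.sC) (y : Q ⧸ H.sC) from κ_map (QuotientGroup.mk' H.sC) x y]
    exact S.κ_fix _ _)
  have hκsq : ∀ x y : Q, H.e (H.δ (κ x y)) ^ 2 = S.μ * (A x * B y + B x * A y) := fun x y => by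
    rw [← eBar_mk, show ((κ x y : Q) : Q ⧸ H.sC) = κ (x : Q ⧸ H.sC) (y : Q ⧸ H.sC) from
      κ_map (QuotientGroup.mk' H.sC) x y]
    exact S.κ_sq (x : Q ⧸ H.sC) (y : Q ⧸ H.sC)
  have hκC : ∀ d ∈ H.sD, ∀ y : Q, H.α (κ d y) = κ d y ∧ H.α (κ y d) = κ y d := fun d hd y => by
    have hd' := (H.bar hne).e_κ_fix (H.mk_fix.mpr hd) (y : Q ⧸ H.sC)
    constructor <;> rw [← H.mem_sC, ← QuotientGroup.eq_one_iff]
    · exact (κ_map (QuotientGroup.mk' H.sC) d y).trans hd'.1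
    · exact (κ_map (QuotientGroup.mk' H.sC) y d).trans hd'.2
  let t : Q → F := fun x => H.e (H.δ x)
  have t_mul : ∀ x ∈ H.sD, ∀ y ∈ H.sD, t (x * y) = t x + t y := fun x hx y hy => by
    show H.e _ = _
    rw [H.δ_mul hx, H.e_mul _ _ hx hy]
  have hDρ : ∀ x ∈ H.sD, H.ρ x ∈ H.sD := fun x hx => by rw [mem_sD, H.δ_ρ, H.fix_ρ hx]
  have t_ρ : ∀ x ∈ H.sD, t (H.ρ x) = H.ω * t x := fun x hx => by
    show H.e _ = _
    rw [H.δ_ρ, H.e_ρ _ hx]
  have t_surj : ∀ f, ∃ x ∈ H.sD, t x = f := fun f => by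
    obtain ⟨v, hv, he⟩ := (H.bar hne).e_surj f
    obtain ⟨x, rfl⟩ := QuotientGroup.mk_surjective v
    exact ⟨x, H.mk_fix.mp hv, he⟩
  have hDcomm : ∀ x ∈ H.sD, ∀ y ∈ H.sD, x * y = y * x :=
    H.comm_trivial H.sD hDρ t t_mul t_ρ t_surj (fun x hx y _ => (hκC x hx y).1)
      (fun d hd h y _ => by rw [(H.e_κ_fix (H.δ_eq_one.mp (H.e_inj _ hd h)) y).1, H.e_one])
  choose dt hdtD hdt using t_surj
  choose sa hsaA hsaB using fun a => surj a 0
  choose sb hsbA hsbB using fun b => surj 0 b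
  -- the pairing of `D` with `Q`
  have hleft : ∀ d ∈ H.sD, ∀ d' ∈ H.sD, t d = t d' → ∀ y, H.e (κ d y) = H.e (κ d' y) := by
    intro d hd d' hd' he y
    have hc : d'⁻¹ * d ∈ H.sD := mul_mem (inv_mem hd') hd
    have hc' : H.α (d'⁻¹ * d) = d'⁻¹ * d := by
      refine H.δ_eq_one.mp (H.e_inj _ hc ?_)
      have h := t_mul d' hd' _ hc
      rw [mul_inv_cancel_left, he, left_eq_add] at h
      exact h
    rw [← mul_inv_cancel_left d' d, (H.e_κ_left (hκC d' hd' y).1 (hκC _ hc y).1).2, (H.e_κ_fix hc' y).1, H.e_one,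
      add_zero]
  have hright : ∀ d ∈ H.sD, ∀ y y', A y = A y' → B y = B y' → H.e (κ d y) = H.e (κ d y') := by
    intro d hd y y' h1 h2
    have hc : y'⁻¹ * y ∈ H.sD := by
      rw [hD]
      have e1 := A_mul y' (y'⁻¹ * y)
      have e2 := B_mul y' (y'⁻¹ * y)
      rw [mul_inv_cancel_left, h1, left_eq_add] at e1
      rw [mul_inv_cancel_left, h2, left_eq_add] at e2
      exact ⟨e1, e2⟩
    rw [← mul_inv_cancel_left y' y, (H.e_κ_right (hκC d hd y').1 (hκC d hd _).1).2,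
      κ_eq_one.mpr (hDcomm d hd _ hc), H.e_one, add_zero]
  have hsplit : ∀ d ∈ H.sD, ∀ y,
      H.e (κ d y) = H.e (κ (dt (t d)) (sa (A y))) + H.e (κ (dt (t d)) (sb (B y))) := by
    intro d hd y
    rw [hleft d hd (dt (t d)) (hdtD _) (hdt _).symm, hright _ (hdtD _) y (sa (A y) * sb (B y))
        (by rw [A_mul, hsaA, hsbA, add_zero]) (by rw [B_mul, hsaB, hsbB, zero_add]),
      (H.e_κ_right (hκC _ (hdtD _) _).1 (hκC _ (hdtD _) _).1).2]
  have hshift : ∀ d ∈ H.sD, ∀ z, H.e (κ (H.α d) z) = H.e (κ d z) := fun d hd z => by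
    rw [H.α_eq, (H.e_κ_left (hκC d hd z).1 (by rw [(H.e_κ_fix hd z).1, H.fix_one])).2, (H.e_κ_fix hd z).1, H.e_one,
      add_zero]
  have hαinv : ∀ d ∈ H.sD, ∀ y, H.e (κ d (H.α y)) = H.e (κ d y) := fun d hd y => by
    rw [← hshift d hd, ← κ_map, (hκC d hd y).1]
  -- only the second coordinate is seen
  have hP1 : ∀ u f, H.e (κ (dt f) (sa u)) = 0 := by
    intro u f
    have h := hαinv (dt f) (hdtD f) (sb u)
    rw [hright _ (hdtD f) (H.α (sb u)) (sa u * sb u) (by rw [A_α, A_mul, hsaA, hsbA, hsbB, zero_add, add_zero])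
        (by rw [B_α, B_mul, hsaB, hsbB, zero_add]),
      (H.e_κ_right (hκC _ (hdtD _) _).1 (hκC _ (hdtD _) _).1).2] at h
    linear_combination h
  let P : F → F → F := fun f b => H.e (κ (dt f) (sb b))
  have hP : ∀ d ∈ H.sD, ∀ y, H.e (κ d y) = P (t d) (B y) := fun d hd y => by
    rw [hsplit d hd y, hP1, zero_add]
  obtain ⟨ν, hν⟩ := pair_sq H.gen P
    (fun f f' b => by
      show H.e _ = H.e _ + H.e _
      rw [hleft (dt (f + f')) (hdtD _) (dt f * dt f') (mul_mem (hdtD _) (hdtD _))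
        (by rw [t_mul _ (hdtD _) _ (hdtD _), hdt, hdt, hdt])]
      exact (H.e_κ_left (hκC _ (hdtD _) _).1 (hκC _ (hdtD _) _).1).2)
    (fun f b b' => by
      show H.e _ = H.e _ + H.e _
      rw [hright _ (hdtD f) (sb (b + b')) (sb b * sb b') (by rw [A_mul, hsbA, hsbA, hsbA, add_zero])
        (by rw [B_mul, hsbB, hsbB, hsbB])]
      exact (H.e_κ_right (hκC _ (hdtD _) _).1 (hκC _ (hdtD _) _).1).2)
    (fun f b => by
      show H.e _ = H.ω * H.e _
      rw [hleft (dt (H.ω * f)) (hdtD _) (H.ρ (dt f)) (hDρ _ (hdtD _)) (by rw [t_ρ _ (hdtD _), hdt, hdt]),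
        hright _ (hDρ _ (hdtD f)) (sb (H.ω * b)) (H.ρ (sb b)) (by rw [A_ρ, hsbA, hsbA, mul_zero])
          (by rw [B_ρ, hsbB, hsbB]),
        ← κ_map, H.e_ρ _ (hκC _ (hdtD f) _).1])
  have hPz : ∀ f, P f 0 = 0 := fun f => sq_eq_zero_iff.mp (by rw [hν, mul_zero, mul_zero])
  -- the kernel of `B` is commutative
  have B_one : B 1 = 0 := ((hD 1).mp (one_mem _)).2
  let E : Subgroup Q :=
    { carrier := {x | B x = 0}
      one_mem' := B_one
      mul_mem' := fun {x y} (hx : B x = 0) (hy : B y = 0) => by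
        show B (x * y) = 0
        rw [B_mul, hx, hy, add_zero]
      inv_mem' := fun {x} (hx : B x = 0) => by
        show B x⁻¹ = 0
        have := B_mul x⁻¹ x
        rw [inv_mul_cancel, B_one, hx, add_zero] at this
        exact this.symm }
  have hEκ : ∀ x ∈ E, ∀ y ∈ E, H.α (κ x y) = κ x y := fun x (hx : B x = 0) y (hy : B y = 0) => by
    refine H.δ_eq_one.mp (H.e_inj _ (hκD x y) (sq_eq_zero_iff.mp ?_))
    rw [hκsq, hx, hy]
    ring
  have hEcomm : ∀ x ∈ E, ∀ y ∈ E, x * y = y * x :=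
    H.comm_trivial E (fun x (hx : B x = 0) => show B (H.ρ x) = 0 by rw [B_ρ, hx, mul_zero]) A
      (fun x _ y _ => A_mul x y) (fun x _ => A_ρ x)
      (fun a => by obtain ⟨x, h1, h2⟩ := surj a 0; exact ⟨x, h2, h1⟩) hEκ
      (fun d (hd : B d = 0) h y (hy : B y = 0) => by rw [hP d ((hD d).mpr ⟨h, hd⟩), hy, hPz])
  -- the pairing agrees with the one on the quotient
  have hμν : S.μ = ν := by
    have hxB := hsaB 1
    have hxA := hsaA 1
    set x := sa 1 with hx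
    set y := sb 1 with hy
    have hδy : B (H.δ y) = 0 := by
      have h := B_α y
      rw [H.α_eq, B_mul, add_eq_left] at h
      exact h
    have hδxA : A (H.δ x) = 0 := by
      have h := A_α x
      rw [H.α_eq, A_mul, hxB, add_zero, add_eq_left] at h
      exact h
    have hδxB : B (H.δ x) = 0 := by
      have h := B_α x
      rw [H.α_eq, B_mul, add_eq_left] at h
      exact h
    have hδxD : H.δ x ∈ H.sD := (hD _).mpr ⟨hδxA, hδxB⟩
    have htδ : t (H.δ x) = 1 := by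
      have h := S.A_D (x : Q ⧸ H.sC) (H.mk_fix.mpr hδxD)
      rw [← hxA]
      exact h.symm
    have hkD : κ x y ∈ H.sD := hκD x y
    have e1 : κ (x * H.δ x) (y * H.δ y) = κ x y * κ (H.δ x) (y * H.δ y) := by
      rw [κ_mul_left, κ_mul_right x y (H.δ y), κ_eq_one.mpr (hEcomm x hxB _ hδy), one_mul]
      congr 1
      have c1 : κ x y * H.δ y = H.δ y * κ x y := hEcomm _ ((hD _).mp hkD).2 _ hδy
      have c2 : κ x y * H.δ x = H.δ x * κ x y := hDcomm _ hkD _ hδxD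
      rw [mul_assoc (H.δ y)⁻¹, c1, inv_mul_cancel_left, mul_assoc, c2, inv_mul_cancel_left]
    have e2 : H.δ (κ x y) = κ (H.δ x) (y * H.δ y) := by
      show (κ x y)⁻¹ * H.α (κ x y) = _
      rw [κ_map, H.α_eq x, H.α_eq y, e1, inv_mul_cancel_left]
    have h1 := hκsq x y
    rw [e2, hP _ hδxD, htδ, B_mul, hδy, hν, hxA, hxB, hsbB] at h1
    linear_combination -h1
  -- the final contradiction
  have hA : ∀ a : F, a ^ 2 + a + S.m = 0 := by
    intro a
    obtain ⟨y, hya, hyb⟩ := surj a 1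
    have h1 : P (t (y * y)) (B y) = 0 := by
      rw [← hP _ (hsqD y), κ_eq_one.mpr (mul_assoc y y y), H.e_one]
    have h2 : ν * t (y * y) = 0 := by
      have h3 := hν (t (y * y)) (B y)
      rw [h1, hyb] at h3
      linear_combination -h3
    rw [← hμν] at h2
    have h4 := hsq y
    rw [show H.e (H.δ (y * y)) = 0 from (mul_eq_zero.mp h2).resolve_left S.μ_ne, hya, hyb] at h4
    refine (mul_eq_zero.mp ?_).resolve_left S.μ_ne
    linear_combination -h4
  have hm : S.m = 0 := by simpa using hA 0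
  have h2 : ∀ a : F, a ∈ ({0, 1} : Finset F) := fun a => by
    have h3 : a * (a + 1) = 0 := by linear_combination hA a - hm
    rcases mul_eq_zero.mp h3 with h | h
    · simp [h]
    · simp [CharTwo.add_eq_zero.mp h]
  have h5 := (Finset.card_le_card (s := (Finset.univ : Finset F)) (fun a _ => h2 a)).trans Finset.card_le_two
  rw [Finset.card_univ] at h5
  omega

end Hyp

/-- Coordinates exist on every nonabelian group with these data. -/
theorem exists_shape (h4 : 4 ≤ Fintype.card F) : ∀ (Q : Type u) [Group Q] [Finite Q] (H : Hyp Q F),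
    (∃ x y : Q, x * y ≠ y * x) → Nonempty (Shape H) := by
  suffices h : ∀ (N : ℕ) (Q : Type u) [Group Q] [Finite Q] (H : Hyp Q F), Nat.card Q = N →
      (∃ x y : Q, x * y ≠ y * x) → Nonempty (Shape H) from fun Q _ _ H hna => h _ Q H rfl hna
  intro N
  induction N using Nat.strong_induction_on with
  | _ N ih =>
    intro Q _ _ H hN hna
    by_cases hcom : ∀ v w : Q ⧸ H.sC, v * w = w * v
    · exact H.shape_of_sq hna (H.sq_fixed hna hcom)
    · push Not at hcom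
      have hne : ∃ x, H.α x ≠ x := by
        obtain ⟨x, y, hxy⟩ := hna
        exact ⟨x, fun h => hxy (H.central h y).symm⟩
      obtain ⟨S⟩ := ih _ (hN ▸ H.card_quot) (Q ⧸ H.sC) (H.bar hne) rfl hcom
      exact (H.no_longer h4 hne S).elim

end Cfsg.Lib.PGroups.Singer
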